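import Groth.Agent.EGA73.NormRelAmple
import Groth.Agent.EGA73.QuasiProjective
import Groth.Agent.Quot84.Exists
import Groth.Agent.Quot84.Finiteness
import Groth.Agent.S4418

/-!
# Quotients of quasi-projective and projective schemes by finite groups
-/

set_option autoImplicit false
universe u
open CategoryTheory CategoryTheory.Limits AlgebraicGeometry TopologicalSpace

noncomputable section

namespace Groth.Agent.Sym20

open Amp73 EGA73 Var76.LineBundle Var76.ZeroScheme

variable {X Y S : Scheme.{u}} {G : Type u} [Group G] [Finite G] {ρ : G →* Aut X} {q : X ⟶ Y}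

/-- The norm of a quotient by a finite group: the product of the conjugates. -/
theorem nonempty_wnorm (hq : SGA1.IsQuot ρ q) : Nonempty (WNorm q) := by
  classical
  letI := Fintype.ofFinite G
  let a : ∀ (U : Y.Opens), G → Γ(X, q ⁻¹ᵁ U) →+* Γ(X, q ⁻¹ᵁ U) := fun U σ =>
    (Quot84.pull q (ρ σ).hom (hq.inv σ) U).hom
  have hmul : ∀ (U : Y.Opens) (σ τ : G) (s : Γ(X, q ⁻¹ᵁ U)), a U τ (a U σ s) = a U (σ * τ) s := by
    intro U σ τ s
    show (Quot84.pull q (ρ τ).hom (hq.inv τ) U).hom ((Quot84.pull q (ρ σ).hom (hq.inv σ) U).hom s) = _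
    rw [← CommRingCat.comp_apply, ← Quot84.pull_comp]
    exact congrArg (fun m => m.hom s) (Quot84.pull_congr q _ _ (Quot84.hom_mul ρ σ τ).symm U)
  have hfix : ∀ (U : Y.Opens) (s : Γ(X, q ⁻¹ᵁ U)), ∃ t : Γ(Y, U), (q.app U).hom t = ∏ σ, a U σ s :=
    fun U s => (hq.range_iff U _).mpr fun τ => by
      show a U τ (∏ σ, a U σ s) = _
      rw [map_prod]
      simp only [hmul]
      exact Equiv.prod_comp (Equiv.mulRight τ) fun σ => a U σ s
  choose N hN using hfix
  have hone : ∀ U, N U 1 = 1 := fun U => hq.injective U (by simp [hN])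
  refine ⟨{ norm := fun U => { toFun := N U, map_one' := hone U, map_mul' := fun s t => hq.injective U (by
              simp only [map_mul, hN, Finset.prod_mul_distrib]) }
            norm_res := fun {U V} h s => hq.injective V ?_
            norm_fibre := fun U s y hy => ?_ }⟩
  · show (q.app V).hom ((Y.presheaf.map (homOfLE h).op).hom (N U s)) =
      (q.app V).hom (N V ((X.presheaf.map (homOfLE (q.preimage_mono h)).op).hom s))
    rw [Quot84.app_res_apply, hN, hN, map_prod]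
    exact Finset.prod_congr rfl fun σ _ => (Quot84.pull_res_apply q (hq.inv σ) h s).symm
  · obtain ⟨x, rfl⟩ := Quot84.surjective hq y
    refine ⟨x, ?_, rfl⟩
    have h1 : x ∈ q ⁻¹ᵁ Y.basicOpen (N U s) := hy
    rw [Scheme.preimage_basicOpen, hN, ← Finset.mul_prod_erase _ _ (Finset.mem_univ (1 : G)),
      Scheme.basicOpen_mul] at h1
    have h2 : a U 1 s = s := by
      show (Quot84.pull q (ρ 1).hom (hq.inv 1) U).hom s = s
      rw [Quot84.pull_congr q _ (Category.id_comp q) (Quot84.hom_one ρ) U, Quot84.pull_id]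
      rfl
    rw [h2] at h1
    exact h1.1

theorem exists_isRelAmple_of_isQuot (hq : SGA1.IsQuot ρ q) {h : Y ⟶ S} [QuasiCompact h]
    [LocallyOfFiniteType (q ≫ h)] {L : X.Modules} (hL : RelAmple.IsRelAmple (q ≫ h) L) :
    ∃ M : Y.Modules, RelAmple.IsRelAmple h M := by
  have := Quot84.isFinite_of_locallyOfFiniteType hq h
  obtain ⟨N⟩ := nonempty_wnorm hq
  obtain ⟨M, -, H⟩ := N.exists_isNormBundle (L := L) (exists_frame_near_fibre_of_isRelAmple h q hL)
  exact ⟨M, inferInstance, fun V => (H.restrict (h ⁻¹ᵁ V.1)).isAmple (hL.2 V)⟩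

theorem exists_quot_isQuasiProjective (f : X ⟶ S) [IsLocallyNoetherian S] (ρ : G →* Aut X)
    (hρ : ∀ σ : G, (ρ σ).hom ≫ f = f) (hf : RelProj.IsQuasiProjective f) :
    ∃ (Y : Scheme.{u}) (q : X ⟶ Y) (h : Y ⟶ S),
      q ≫ h = f ∧ SGA1.IsQuot ρ q ∧ RelProj.IsQuasiProjective h := by
  obtain ⟨hlft, hqc, L, hL⟩ := hf
  have haff : ∀ x : X, ∃ U : X.Opens, IsAffineOpen U ∧ ∀ g : G, (ρ g).hom x ∈ U := by
    intro x
    obtain ⟨V, hV, hxV, -⟩ := exists_isAffineOpen_mem_and_subset (U := (⊤ : S.Opens)) (x := f x) trivial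
    let A := f ⁻¹ᵁ V
    have hmem : ∀ g : G, (ρ g).hom x ∈ A := fun g => by
      show f ((ρ g).hom x) ∈ V
      rw [← Scheme.Hom.comp_apply, hρ g]
      exact hxV
    obtain ⟨W, -, hZW, -, hW⟩ := exists_affine_genSet_of_finite (hL.2 ⟨V, hV⟩)
      (Z := Set.range fun g : G => (⟨(ρ g).hom x, hmem g⟩ : A)) (Set.finite_range _)
      (U := ⊤) (fun _ _ => trivial)
    exact ⟨A.ι ''ᵁ W, hW.image_of_isOpenImmersion A.ι,
      fun g => ⟨⟨(ρ g).hom x, hmem g⟩, hZW ⟨g, rfl⟩, rfl⟩⟩
  obtain ⟨Y, q, hq⟩ := Quot84.exists_quot ρ haff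
  obtain ⟨h, rfl⟩ := Quot84.exists_desc hq f hρ
  have := Quot84.quasiCompact_desc hq h
  have := Quot84.locallyOfFiniteType_desc hq h
  exact ⟨Y, q, h, rfl, hq, ‹_›, ‹_›, exists_isRelAmple_of_isQuot hq hL⟩

theorem exists_quot_isProjective (f : X ⟶ S) [IsNoetherian S] (ρ : G →* Aut X)
    (hρ : ∀ σ : G, (ρ σ).hom ≫ f = f) (hf : RelProj.IsProjective f) :
    ∃ (Y : Scheme.{u}) (q : X ⟶ Y) (h : Y ⟶ S),
      q ≫ h = f ∧ SGA1.IsQuot ρ q ∧ RelProj.IsProjective h := by
  obtain ⟨hqp, hprop⟩ := Groth.Agent.S4418.result f hf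
  obtain ⟨Y, q, h, rfl, hq, hh⟩ := exists_quot_isQuasiProjective f ρ hρ hqp
  refine ⟨Y, q, h, rfl, hq, ?_⟩
  have := hh.1
  have := hh.2.1
  have : IsSeparated h := (Quot84.isSeparated_iff hq h).mp inferInstance
  have : Surjective q := ⟨Quot84.surjective hq⟩
  have : UniversallyClosed h := UniversallyClosed.of_comp_surjective q h
  have : IsProper h := {}
  exact EGA73.QuasiProjective.isProjective_of_isProper (Or.inr inferInstance) h hh

end Groth.Agent.Sym20
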