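import Groth.Agent.Sym20.Residue
import Groth.Agent.Quot84.Transport

/-!
# Symmetric products, base change and closed subschemes
-/

set_option autoImplicit false
universe u
open CategoryTheory CategoryTheory.Limits AlgebraicGeometry
open scoped TensorProduct

namespace Groth.Agent.Sym20

/-- On a chart, `q × id` is injective on sections when `|G|` is invertible on the chart of the base. -/
theorem injective_chart_map {P Y S S' : Scheme.{u}} {G : Type u} [Group G] [Finite G] {ρ : G →* Aut P}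
    {p : P ⟶ S} {q : P ⟶ Y} {g : Y ⟶ S} (hq : SGA1.IsQuot ρ q) (hover : q ≫ g = p) (b : S' ⟶ S)
    {V : S.Opens} (hV : IsAffineOpen V) {W' : Y.Opens} (hW' : IsAffineOpen W') (hWV : W' ≤ g ⁻¹ᵁ V)
    {T : S'.Opens} (hT : IsAffineOpen T) (hTV : T ≤ b ⁻¹ᵁ V)
    (hcard : IsUnit ((Nat.card G : ℕ) : Γ(S', T))) :
    Function.Injective ((pullback.map p b g b q (𝟙 S') (𝟙 S) ((Category.comp_id _).trans hover.symm)
      ((Category.comp_id b).trans (Category.id_comp b).symm)).app
        (pullback.fst g b ⁻¹ᵁ W' ⊓ pullback.snd g b ⁻¹ᵁ T)).hom := by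
  classical
  set ψ := pullback.map p b g b q (𝟙 S') (𝟙 S) ((Category.comp_id _).trans hover.symm)
      ((Category.comp_id b).trans (Category.id_comp b).symm) with hψ
  have hψ1 : ψ ≫ pullback.fst g b = pullback.fst p b ≫ q := pullback.lift_fst _ _ _
  have hψ2 : ψ ≫ pullback.snd g b = pullback.snd p b :=
    (pullback.lift_snd _ _ _).trans (Category.comp_id _)
  have := hq.affine
  let O : P.Opens := q ⁻¹ᵁ W'
  have hO : IsAffineOpen O := hW'.preimage q
  have hOV : O ≤ p ⁻¹ᵁ V := by
    rw [← hover, Scheme.Hom.comp_preimage]; exact q.preimage_mono hWV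
  set C := pullback.fst g b ⁻¹ᵁ W' ⊓ pullback.snd g b ⁻¹ᵁ T with hC
  let C₀ := pullback.fst p b ⁻¹ᵁ O ⊓ pullback.snd p b ⁻¹ᵁ T
  have hC₀ : ψ ⁻¹ᵁ C = C₀ := by
    rw [hC, Scheme.Hom.preimage_inf, ← Scheme.Hom.comp_preimage, ← Scheme.Hom.comp_preimage, hψ1, hψ2,
      Scheme.Hom.comp_preimage]
  have hY : IsPullback (pullback.fst g b) (pullback.snd g b) g b := IsPullback.of_hasPullback g b
  have hP : IsPullback (pullback.fst p b) (pullback.snd p b) p b := IsPullback.of_hasPullback p b
  have hpY := (isIso_pushoutSection_iff (US := V) (UT := W') (UX := T) (UY := C) hY.flip hWV hTV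
    (by rw [hC, inf_comm])).mp (isIso_pushoutSection_of_isAffineOpen hY.flip hWV hTV _ hV hW' hT)
  have hpP := (isIso_pushoutSection_iff (US := V) (UT := O) (UX := T) (UY := C₀) hP.flip hOV hTV
    (by rw [inf_comm])).mp (isIso_pushoutSection_of_isAffineOpen hP.flip hOV hTV _ hV hO hT)
  let := (b.appLE V T hTV).hom.toAlgebra
  let := (g.appLE V W' hWV).hom.toAlgebra
  let := (p.appLE V O hOV).hom.toAlgebra
  let := ((pullback.snd g b).appLE T C inf_le_right).hom.toAlgebra
  let := ((pullback.fst g b).appLE W' C inf_le_left).hom.toAlgebra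
  let := ((pullback.snd p b).appLE T C₀ inf_le_right).hom.toAlgebra
  let := ((pullback.fst p b).appLE O C₀ inf_le_left).hom.toAlgebra
  let := (b.appLE V T hTV ≫ (pullback.snd g b).appLE T C inf_le_right).hom.toAlgebra
  let := (b.appLE V T hTV ≫ (pullback.snd p b).appLE T C₀ inf_le_right).hom.toAlgebra
  have := IsScalarTower.of_algebraMap_eq' (R := Γ(S, V)) (S := Γ(S', T)) (A := Γ(pullback g b, C)) rfl
  have := IsScalarTower.of_algebraMap_eq' (R := Γ(S, V)) (S := Γ(Y, W')) (A := Γ(pullback g b, C))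
    congr($(hpY.w).hom)
  have := IsScalarTower.of_algebraMap_eq' (R := Γ(S, V)) (S := Γ(S', T)) (A := Γ(pullback p b, C₀)) rfl
  have := IsScalarTower.of_algebraMap_eq' (R := Γ(S, V)) (S := Γ(P, O)) (A := Γ(pullback p b, C₀))
    congr($(hpP.w).hom)
  have hY' : Algebra.IsPushout Γ(S, V) Γ(S', T) Γ(Y, W') Γ(pullback g b, C) :=
    CommRingCat.isPushout_iff_isPushout.mp hpY
  have hP' : Algebra.IsPushout Γ(S, V) Γ(S', T) Γ(P, O) Γ(pullback p b, C₀) :=
    CommRingCat.isPushout_iff_isPushout.mp hpP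
  -- the norm-trace back to the quotient
  letI := Fintype.ofFinite G
  let actg : G → Γ(P, O) →+* Γ(P, O) := fun σ =>
    ((ρ σ).hom.appLE O O (SGA1.preimage_le_of_inv ρ q hq.inv σ W')).hom
  have hact : ∀ σ τ t, actg σ (actg τ t) = actg (τ * σ) t := fun σ τ t => by
    show ((ρ σ).hom.appLE O O _).hom (((ρ τ).hom.appLE O O _).hom t) = _
    rw [SymP31.appLE_trans]
    exact SymP31.appLE_congr_hom (Quot84.hom_mul ρ τ σ).symm _ t
  have hinvt : ∀ t : Γ(P, O), ∃ x : Γ(Y, W'), (q.app W').hom x = ∑ σ : G, actg σ t := fun t => by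
    refine (hq.range_iff W' _).mpr fun τ => ?_
    show actg τ _ = _
    rw [map_sum]
    simp only [hact]
    exact Equiv.sum_comp (Equiv.mulRight τ) fun σ => actg σ t
  choose tr htr using hinvt
  have hqinj := hq.injective W'
  have htr_add : ∀ t t', tr (t + t') = tr t + tr t' := fun t t' => hqinj (by
    simp only [map_add, htr, Finset.sum_add_distrib])
  have hbase : ∀ (σ : G) (v : Γ(S, V)), actg σ ((p.appLE V O hOV).hom v) = (p.appLE V O hOV).hom v :=
    fun σ v => by
      show ((ρ σ).hom.appLE O O _).hom _ = _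
      rw [SymP31.appLE_trans]
      refine SymP31.appLE_congr_hom ?_ _ v
      rw [← hover, ← Category.assoc, hq.inv σ]
  let trL : Γ(P, O) →ₗ[Γ(S, V)] Γ(Y, W') :=
    { toFun := tr
      map_add' := htr_add
      map_smul' := fun v t => hqinj (by
        simp only [Algebra.smul_def, RingHom.id_apply, map_mul, htr, hbase, Finset.mul_sum]
        refine Finset.sum_congr rfl fun σ _ => ?_
        congr 1
        show actg σ ((p.appLE V O hOV).hom v) = (q.app W').hom ((g.appLE V W' hWV).hom v)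
        rw [hbase, ← Scheme.Hom.appLE_eq_app, SymP31.appLE_trans]
        exact (SymP31.appLE_congr_hom hover.symm _ v)) }
  let qA : Γ(Y, W') →ₗ[Γ(S, V)] Γ(P, O) :=
    { toFun := (q.app W').hom
      map_add' := map_add _
      map_smul' := fun v x => by
        simp only [Algebra.smul_def, RingHom.id_apply, map_mul]
        congr 1
        show (q.app W').hom ((g.appLE V W' hWV).hom v) = (p.appLE V O hOV).hom v
        rw [← Scheme.Hom.appLE_eq_app, SymP31.appLE_trans]
        exact SymP31.appLE_congr_hom hover _ v }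
  have htrq : trL.comp qA = (Nat.card G) • LinearMap.id := LinearMap.ext fun x => hqinj (by
    show (q.app W').hom (tr ((q.app W').hom x)) = (q.app W').hom ((Nat.card G) • x)
    rw [htr, map_nsmul, Finset.sum_congr rfl fun σ _ => ((hq.range_iff W' _).mp ⟨x, rfl⟩ σ),
      Finset.sum_const, Finset.card_univ, Nat.card_eq_fintype_card])
  let eY := Algebra.IsPushout.equiv Γ(S, V) Γ(S', T) Γ(Y, W') Γ(pullback g b, C)
  let eP := Algebra.IsPushout.equiv Γ(S, V) Γ(S', T) Γ(P, O) Γ(pullback p b, C₀)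
  have hcomm : ∀ w, (ψ.appLE C C₀ hC₀.ge).hom (eY w) = eP (qA.lTensor Γ(S', T) w) := by
    intro w
    induction w with
    | zero => simp
    | add u v hu hv => simp only [map_add, hu, hv]
    | tmul a x =>
      rw [LinearMap.lTensor_tmul, Algebra.IsPushout.equiv_tmul, Algebra.IsPushout.equiv_tmul, map_mul]
      show (ψ.appLE C C₀ _).hom (((pullback.snd g b).appLE T C _).hom a) *
          (ψ.appLE C C₀ _).hom (((pullback.fst g b).appLE W' C _).hom x) =
        ((pullback.snd p b).appLE T C₀ _).hom a * ((pullback.fst p b).appLE O C₀ _).hom ((q.app W').hom x)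
      rw [SymP31.appLE_trans, SymP31.appLE_trans, SymP31.appLE_congr_hom hψ2, SymP31.appLE_congr_hom hψ1,
        ← Scheme.Hom.appLE_eq_app, SymP31.appLE_trans]
  intro x x' hxx
  obtain ⟨w, rfl⟩ := eY.surjective x
  obtain ⟨w', rfl⟩ := eY.surjective x'
  have h2 : (ψ.appLE C C₀ hC₀.ge).hom (eY w) = (ψ.appLE C C₀ hC₀.ge).hom (eY w') := by
    rw [Scheme.Hom.appLE, CommRingCat.comp_apply, CommRingCat.comp_apply]
    exact congrArg _ hxx
  rw [hcomm, hcomm] at h2
  have h3 := congrArg (trL.lTensor Γ(S', T)) (eP.injective h2)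
  rw [← LinearMap.comp_apply, ← LinearMap.comp_apply, ← LinearMap.lTensor_comp, htrq] at h3
  have h4 : ∀ z : Γ(S', T) ⊗[Γ(S, V)] Γ(Y, W'),
      ((Nat.card G) • (LinearMap.id : Γ(Y, W') →ₗ[Γ(S, V)] Γ(Y, W'))).lTensor Γ(S', T) z =
        ((Nat.card G : ℕ) : Γ(S', T)) • z := fun z => by
    induction z with
    | zero => simp
    | add u v hu hv => rw [map_add, hu, hv, smul_add]
    | tmul a y => rw [LinearMap.lTensor_tmul, LinearMap.smul_apply, LinearMap.id_apply,
        TensorProduct.tmul_smul, Nat.cast_smul_eq_nsmul]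
  rw [h4, h4] at h3
  exact congrArg eY (hcard.smul_left_cancel.mp h3)

section baseChange

variable {X S S' Y Y' : Scheme.{u}} {f : X ⟶ S} {d : ℕ} {q : SymProd.fibPow f d ⟶ Y} {g : Y ⟶ S}
  (hq : SymProd.IsSymProd f d q g) {gS : S' ⟶ S}
  {ρ' : ULift.{u} (Equiv.Perm (Fin d)) →* Aut (pullback (WidePullback.base fun _ : Fin d => f) gS)}
  (hρ' : ∀ σ, (ρ' σ).hom ≫ pullback.fst (WidePullback.base fun _ : Fin d => f) gS =
      pullback.fst (WidePullback.base fun _ : Fin d => f) gS ≫ SymProd.permHom f d σ.down ∧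
    (ρ' σ).hom ≫ pullback.snd (WidePullback.base fun _ : Fin d => f) gS =
      pullback.snd (WidePullback.base fun _ : Fin d => f) gS)
  {r : pullback (WidePullback.base fun _ : Fin d => f) gS ⟶ Y'} (hr : SGA1.IsQuot ρ' r)
  {m : Y' ⟶ pullback g gS}
  (hm : r ≫ m = pullback.map (WidePullback.base fun _ : Fin d => f) gS g gS q (𝟙 S') (𝟙 S)
    ((Category.comp_id _).trans hq.over.symm) ((Category.comp_id gS).trans (Category.id_comp gS).symm))

include hq hρ' hr hm

theorem exists_comparison :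
    ∃ r' : SymProd.fibPow (pullback.snd f gS) d ⟶ Y',
      IsComparison (f' := pullback.snd f gS) (h := pullback.fst f gS) pullback.condition (q := q) (r := r') m := by
  let w : pullback.fst f gS ≫ f = pullback.snd f gS ≫ gS := pullback.condition
  have hP := SymP31.isPullback_fibPow f d gS (cmap w d) (cmap_π w d) (cmap_base w d)
  let e := hP.isoPullback
  have he1 : e.hom ≫ pullback.fst _ _ = cmap w d := hP.isoPullback_hom_fst
  have he2 : e.hom ≫ pullback.snd _ _ = WidePullback.base (fun _ : Fin d => pullback.snd f gS) :=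
    hP.isoPullback_hom_snd
  have hquot := Quot84.of_iso hr (SymProd.permActU (pullback.snd f gS) d) e (Iso.refl Y') (fun σ => by
    apply pullback.hom_ext
    · rw [Category.assoc, he1, Category.assoc, (hρ' σ).1, ← Category.assoc, he1, SymProd.permActU_hom, cmap_perm]
    · rw [Category.assoc, he2, Category.assoc, (hρ' σ).2, he2, SymProd.permActU_hom, SymProd.permHom_base])
  rw [Iso.refl_hom, Category.comp_id] at hquot
  refine ⟨e.hom ≫ r, hquot, ?_, ?_⟩
  · rw [Category.assoc, ← Category.assoc r, hm, pullback.lift_fst, ← Category.assoc, he1]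
  · rw [Category.assoc, ← Category.assoc r, hm, pullback.lift_snd, Category.comp_id, he2]

omit hρ' in
theorem injective_app_of_isUnit {V : S.Opens} (hV : IsAffineOpen V) {W' : Y.Opens} (hW' : IsAffineOpen W')
    (hWV : W' ≤ g ⁻¹ᵁ V) {T : S'.Opens} (hT : IsAffineOpen T) (hTV : T ≤ gS ⁻¹ᵁ V)
    (hchar : ∀ k : ℕ, 0 < k → IsUnit ((k : ℕ) : Γ(S', ⊤))) :
    Function.Injective (m.app (pullback.fst g gS ⁻¹ᵁ W' ⊓ pullback.snd g gS ⁻¹ᵁ T)).hom := by
  have hcard : IsUnit ((Nat.card (ULift.{u} (Equiv.Perm (Fin d))) : ℕ) : Γ(S', T)) := by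
    have h1 := (hchar (Nat.card (ULift.{u} (Equiv.Perm (Fin d)))) Nat.card_pos).map
      ((S'.presheaf.map (homOfLE (le_top : T ≤ ⊤)).op).hom)
    rwa [map_natCast] at h1
  have h := injective_chart_map hq.isQuot hq.over gS hV hW' hWV hT hTV hcard
  rw [← hm, Scheme.Hom.comp_app] at h
  exact Function.Injective.of_comp (f := (r.app _).hom) h

theorem baseChange_main [IsSeparated f] :
    (∀ y : Y', IsIso (m.residueFieldMap y)) ∧
    ((∀ n : ℕ, 0 < n → IsUnit ((n : ℕ) : Γ(S', ⊤))) → IsIso m) ∧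
    (Flat (pullback.snd f gS) → IsClosedImmersion m) := by
  obtain ⟨r', hn⟩ := exists_comparison hq hρ' hr hm
  have : IsClosedImmersion (pullback.lift (pullback.fst f gS) (pullback.snd f gS) pullback.condition :
      pullback f gS ⟶ pullback f gS) := by
    rw [show pullback.lift (pullback.fst f gS) (pullback.snd f gS) pullback.condition = 𝟙 _ by
      apply pullback.hom_ext <;> simp]
    infer_instance
  refine ⟨isIso_residueFieldMap_comparison hq hn, fun hchar => ?_, fun hflat =>
    isClosedImmersion_comparison hq hn (Or.inl hflat)⟩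
  have hci := isClosedImmersion_comparison hq hn (Or.inr hchar)
  have hcover : ∀ y : ↥(pullback g gS), ∃ (V : S.Opens) (W' : Y.Opens) (T : S'.Opens), IsAffineOpen V ∧
      IsAffineOpen W' ∧ W' ≤ g ⁻¹ᵁ V ∧ IsAffineOpen T ∧ T ≤ gS ⁻¹ᵁ V ∧
      y ∈ pullback.fst g gS ⁻¹ᵁ W' ⊓ pullback.snd g gS ⁻¹ᵁ T := fun y => by
    obtain ⟨V, hV, hyV, -⟩ := exists_isAffineOpen_mem_and_subset
      (x := g (pullback.fst g gS y)) (U := ⊤) trivial
    obtain ⟨W', hW', hyW, hWV⟩ := exists_isAffineOpen_mem_and_subset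
      (x := pullback.fst g gS y) (U := g ⁻¹ᵁ V) hyV
    obtain ⟨T, hT, hyT, hTV⟩ := exists_isAffineOpen_mem_and_subset
      (x := pullback.snd g gS y) (U := gS ⁻¹ᵁ V) (by
        show gS (pullback.snd g gS y) ∈ V
        rw [← Scheme.Hom.comp_apply, ← pullback.condition, Scheme.Hom.comp_apply]
        exact hyV)
    exact ⟨V, W', T, hV, hW', hWV, hT, hTV, hyW, hyT⟩
  choose V W' T hV hW' hWV hT hTV hy using hcover
  rw [IsClosedImmersion.isIso_iff_ker_eq_bot]
  refine Scheme.IdealSheafData.ext_of_iSup_eq_top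
    (fun y => ⟨_, pullbackChart_isAffine g gS (hV y) (hW' y) (hWV y) (hT y) (hTV y)⟩)
    (top_le_iff.mp fun y _ => TopologicalSpace.Opens.mem_iSup.mpr ⟨y, hy y⟩) fun y => ?_
  rw [Scheme.Hom.ker_apply, Scheme.IdealSheafData.ideal_bot]
  exact (RingHom.injective_iff_ker_eq_bot _).mp
    (injective_app_of_isUnit hq hr hm (hV y) (hW' y) (hWV y) (hT y) (hTV y) hchar)

end baseChange

theorem closedSubscheme_main {X Z S Y W : Scheme.{u}} (f : X ⟶ S) (d : ℕ)
    (q : SymProd.fibPow f d ⟶ Y) (g : Y ⟶ S) (hq : SymProd.IsSymProd f d q g)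
    (i : Z ⟶ X) [IsClosedImmersion i]
    (r : SymProd.fibPow (i ≫ f) d ⟶ W) (gW : W ⟶ S) (hr : SymProd.IsSymProd (i ≫ f) d r gW)
    (m : W ⟶ (SymProd.fibPowMap (i ≫ f) d f i rfl ≫ q).ker.subscheme)
    (hm : r ≫ m ≫ (SymProd.fibPowMap (i ≫ f) d f i rfl ≫ q).ker.subschemeι =
      SymProd.fibPowMap (i ≫ f) d f i rfl ≫ q) :
    (∀ w : W, IsIso (m.residueFieldMap w)) ∧
    ((∀ n : ℕ, 0 < n → IsUnit ((n : ℕ) : Γ(S, ⊤))) → IsIso m) ∧
    (Flat (i ≫ f) → IsClosedImmersion m) := by
  let w : i ≫ f = (i ≫ f) ≫ 𝟙 S := (Category.comp_id _).symm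
  have hc : cmap w d = SymProd.fibPowMap (i ≫ f) d f i rfl := by
    apply WidePullback.hom_ext
    · intro k; rw [cmap_π, SymProd.fibPowMap_π]
    · rw [cmap_base, SymProd.fibPowMap_base, Category.comp_id]
  obtain ⟨J, hJ⟩ : ∃ J, J = (SymProd.fibPowMap (i ≫ f) d f i rfl ≫ q).ker := ⟨_, rfl⟩
  revert m
  rw [← hJ]
  intro m hm
  have hover : (m ≫ J.subschemeι) ≫ g = gW := by
    refine Quot84.eq_of_comp_eq hr.isQuot ?_
    rw [← Category.assoc, hm, Category.assoc, hq.over, SymProd.fibPowMap_base, hr.over]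
  let n : W ⟶ pullback g (𝟙 S) := pullback.lift (m ≫ J.subschemeι) gW (by rw [hover, Category.comp_id])
  have hn1 : n ≫ pullback.fst g (𝟙 S) = m ≫ J.subschemeι := pullback.lift_fst _ _ _
  have hn : IsComparison w (q := q) (r := r) n := ⟨hr.isQuot, by rw [hn1, hm, hc],
    by rw [show n ≫ pullback.snd g (𝟙 S) = gW from pullback.lift_snd _ _ _]; exact hr.over⟩
  have : IsClosedImmersion (pullback.lift i (i ≫ f) w : Z ⟶ pullback f (𝟙 S)) := by
    have : IsClosedImmersion ((pullback.lift i (i ≫ f) w : Z ⟶ pullback f (𝟙 S)) ≫ pullback.fst f (𝟙 S)) := by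
      rw [pullback.lift_fst]; infer_instance
    exact IsClosedImmersion.of_comp _ (pullback.fst f (𝟙 S))
  have hci : IsClosedImmersion n → IsClosedImmersion m := fun h => by
    have : IsClosedImmersion (m ≫ J.subschemeι) := by rw [← hn1]; infer_instance
    exact IsClosedImmersion.of_comp m J.subschemeι
  refine ⟨fun x => ?_, fun hchar => ?_, fun hflat =>
    hci (isClosedImmersion_comparison hq hn (Or.inl hflat))⟩
  · have h1 := isIso_residueFieldMap_comparison hq hn x
    have h2 : IsIso ((pullback.fst g (𝟙 S)).residueFieldMap (n x)) := inferInstance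
    have h3 : Function.Bijective ((m ≫ J.subschemeι).residueFieldMap x).hom := by
      have : IsIso ((n ≫ pullback.fst g (𝟙 S)).residueFieldMap x) := by
        rw [Scheme.residueFieldMap_comp]
        exact @IsIso.comp_isIso _ _ _ _ _ _ _ h2 h1
      have hb : Function.Bijective ((n ≫ pullback.fst g (𝟙 S)).residueFieldMap x).hom :=
        ConcreteCategory.bijective_of_isIso _
      clear h1 h2 this
      revert hb
      rw [hn1]
      exact id
    rw [ConcreteCategory.isIso_iff_bijective]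
    rw [Scheme.residueFieldMap_comp] at h3
    exact ⟨(m.residueFieldMap x).hom.injective, fun z => by
      obtain ⟨y, hy⟩ := h3.2 z
      exact ⟨_, hy⟩⟩
  · have := hci (isClosedImmersion_comparison hq hn (Or.inr hchar))
    refine IsClosedImmersion.isIso_of_ker_eq (m ≫ J.subschemeι) J.subschemeι m rfl ?_
    rw [Scheme.IdealSheafData.ker_subschemeι]
    refine le_antisymm ?_ ?_
    · calc (m ≫ J.subschemeι).ker ≤ (r ≫ m ≫ J.subschemeι).ker := Scheme.Hom.le_ker_comp r _
        _ = J := by rw [hm, hJ]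
    · conv_lhs => rw [← Scheme.IdealSheafData.ker_subschemeι (I := J)]
      exact Scheme.Hom.le_ker_comp m _

end Groth.Agent.Sym20
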