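import Groth.Agent.Sym20.Compare
import Groth.Agent.SymP31.BaseChange
import Groth.Agent.Quot84.Finiteness

/-!
# Comparison of symmetric products along `h : X' → X` over `b : S' → S`

`X' → X ×_S S'` is a closed immersion and `n : Sym^d(X'/S') → Sym^d(X/S) ×_S S'` the comparison map.
It has trivial residue field extensions, and is a closed immersion if `X' → S'` is flat or `d!` is invertible.
-/

set_option autoImplicit false
universe u
open CategoryTheory CategoryTheory.Limits AlgebraicGeometry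

namespace Groth.Agent.Sym20

theorem surjective_app_of_isQuot_aux {P Y : Scheme.{u}} {G : Type u} [Group G] {ρ : G →* Aut P} {r : P ⟶ Y}
    (hr : SGA1.IsQuot ρ r) {C : Y.Opens} {O : P.Opens} (e : r ⁻¹ᵁ C = O) (hst : ∀ g : G, O ≤ (ρ g).hom ⁻¹ᵁ O)
    (x : Γ(Y, C)) (g : G) :
    ((ρ g).hom.appLE O O (hst g)).hom ((r.appLE C O e.ge).hom x) = (r.appLE C O e.ge).hom x :=
  (SymP31.mem_range_quot_appLE_iff hr e _ hst).mp ⟨x, rfl⟩ g

theorem surjective_app_congr {P Q : Scheme.{u}} (n : P ⟶ Q) {U U' : Q.Opens} (e : U = U')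
    (hs : Function.Surjective (n.app U).hom) : Function.Surjective (n.app U').hom := by
  subst e; exact hs

variable {X X' S S' Y Y' : Scheme.{u}} {f : X ⟶ S} {f' : X' ⟶ S'} {b : S' ⟶ S} {h : X' ⟶ X}
  (w : h ≫ f = f' ≫ b) {d : ℕ}

/-- The group homomorphism used with the actions. -/
abbrev upHom (d : ℕ) : ULift.{u} (Equiv.Perm (Fin d)) →* Equiv.Perm (Fin d) := MulEquiv.ulift.toMonoidHom

theorem upHom_surjective : Function.Surjective (upHom.{u} d) := fun σ => ⟨⟨σ⟩, rfl⟩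

variable {q : SymProd.fibPow f d ⟶ Y} {g : Y ⟶ S} (hq : SymProd.IsSymProd f d q g)

include hq in
theorem stab_preimage (W' : Y.Opens) : Stab (upHom.{u} d) (q ⁻¹ᵁ W') := fun σ => by
  rw [← Scheme.Hom.comp_preimage]
  exact (congrArg (fun m => m ⁻¹ᵁ W') (hq.isQuot.inv ⟨(upHom d σ).symm⟩)).ge

variable {r : SymProd.fibPow f' d ⟶ Y'}

/-- `n` is the comparison morphism. -/
structure IsComparison (n : Y' ⟶ pullback g b) : Prop where
  quot : SGA1.IsQuot (SymProd.permActU f' d) r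
  fst : r ≫ n ≫ pullback.fst g b = cmap w d ≫ q
  snd : r ≫ n ≫ pullback.snd g b = WidePullback.base (fun _ : Fin d => f')

variable {w} {n : Y' ⟶ pullback g b} (hn : IsComparison w (q := q) (r := r) n)

include hn in
theorem preimage_chart (W' : Y.Opens) (T : S'.Opens) :
    r ⁻¹ᵁ (n ⁻¹ᵁ (pullback.fst g b ⁻¹ᵁ W' ⊓ pullback.snd g b ⁻¹ᵁ T)) = subO w d T (q ⁻¹ᵁ W') := by
  rw [Scheme.Hom.preimage_inf, Scheme.Hom.preimage_inf, ← Scheme.Hom.comp_preimage, ← Scheme.Hom.comp_preimage,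
    ← Scheme.Hom.comp_preimage, ← Scheme.Hom.comp_preimage, Category.assoc, Category.assoc, hn.fst, hn.snd,
    Scheme.Hom.comp_preimage]
  rfl

variable [IsClosedImmersion (pullback.lift h f' w)]

include hq hn in
theorem isAffineOpen_preimage_chart {V : S.Opens} (hV : IsAffineOpen V) {W' : Y.Opens} (hW' : IsAffineOpen W')
    (hWV : W' ≤ g ⁻¹ᵁ V) {T : S'.Opens} (hT : IsAffineOpen T) (hTV : T ≤ b ⁻¹ᵁ V) :
    IsAffineOpen (n ⁻¹ᵁ (pullback.fst g b ⁻¹ᵁ W' ⊓ pullback.snd g b ⁻¹ᵁ T)) := by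
  have := hq.isQuot.affine
  have hO : IsAffineOpen (q ⁻¹ᵁ W') := hW'.preimage q
  have hOV : q ⁻¹ᵁ W' ≤ WidePullback.base (fun _ : Fin d => f) ⁻¹ᵁ V := by
    rw [← hq.over, Scheme.Hom.comp_preimage]; exact q.preimage_mono hWV
  have h1 := isAffineOpen_subO w d hV hO hOV hT hTV
  rw [← preimage_chart hn] at h1
  have : IsAffine (r ⁻¹ᵁ (n ⁻¹ᵁ (pullback.fst g b ⁻¹ᵁ W' ⊓ pullback.snd g b ⁻¹ᵁ T))).toScheme := h1
  exact Quot84.isAffine_of_isAffine (Quot84.isQuot_restrict hn.quot _)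

include hq hn in
/-- Invariant spans descend to sections of the target of the comparison. -/
theorem mem_range_of_mem_invSpan {W' : Y.Opens} {T : S'.Opens}
    {l : Γ(SymProd.fibPow f' d, subO w d T (q ⁻¹ᵁ W'))}
    (hl : l ∈ invSpan (secAct (stab_preimage hq W')) (pullSec w d T (q ⁻¹ᵁ W'))
      (baseSec w d T (q ⁻¹ᵁ W')) ⊤) :
    ∃ y, (r.appLE _ _ (preimage_chart hn W' T).ge).hom
      ((n.app (pullback.fst g b ⁻¹ᵁ W' ⊓ pullback.snd g b ⁻¹ᵁ T)).hom y) = l := by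
  induction hl using AddSubgroup.closure_induction with
  | mem z hz =>
    obtain ⟨a, t, ht, rfl⟩ := hz
    obtain ⟨x, rfl⟩ := (hq.isQuot.range_iff W' t).mpr fun σ => by
      have h1 := ht ⟨σ.down.symm⟩ trivial
      change ((SymProd.permHom f d σ.down.symm.symm).appLE _ _ _).hom t = t at h1
      simp only [Equiv.symm_symm] at h1
      exact h1
    refine ⟨((pullback.snd g b).appLE T _ inf_le_right).hom a * ((pullback.fst g b).appLE W' _ inf_le_left).hom x, ?_⟩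
    rw [map_mul, map_mul, ← Scheme.Hom.appLE_eq_app, SymP31.appLE_trans, SymP31.appLE_trans, SymP31.appLE_trans,
      SymP31.appLE_trans]
    congr 1
    · exact SymP31.appLE_congr_hom hn.snd _ a
    · refine (SymP31.appLE_congr_hom hn.fst _ x).trans ?_
      show _ = ((cmap w d).appLE (q ⁻¹ᵁ W') _ _).hom ((q.app W').hom x)
      rw [← Scheme.Hom.appLE_eq_app, SymP31.appLE_trans]
  | zero => exact ⟨0, by simp⟩
  | add u v _ _ hu hv =>
    obtain ⟨y, rfl⟩ := hu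
    obtain ⟨y', rfl⟩ := hv
    exact ⟨y + y', by rw [map_add, map_add]⟩
  | neg u _ hu =>
    obtain ⟨y, rfl⟩ := hu
    exact ⟨-y, by rw [map_neg, map_neg]⟩

include hn in
theorem fixed_pullback (W' : Y.Opens) (T : S'.Opens) (hO : Stab (upHom.{u} d) (q ⁻¹ᵁ W'))
    (x : Γ(Y', n ⁻¹ᵁ (pullback.fst g b ⁻¹ᵁ W' ⊓ pullback.snd g b ⁻¹ᵁ T))) :
    (secAct (stab_subO w d (T := T) hO)).Fixed ⊤ ((r.appLE _ _ (preimage_chart hn W' T).ge).hom x) :=
  fun σ _ => surjective_app_of_isQuot_aux hn.quot (preimage_chart hn W' T)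
    (fun τ => stab_subO w d (T := T) hO ⟨τ.down.symm⟩) x ⟨(upHom d σ).symm⟩

include hq hn in
theorem isClosedImmersion_comparison
    (H : Flat f' ∨ ∀ k : ℕ, 0 < k → IsUnit ((k : ℕ) : Γ(S', ⊤))) : IsClosedImmersion n := by
  have hcover : ∀ y : ↥(pullback g b), ∃ (V : S.Opens) (W' : Y.Opens) (T : S'.Opens), IsAffineOpen V ∧
      IsAffineOpen W' ∧ W' ≤ g ⁻¹ᵁ V ∧ IsAffineOpen T ∧ T ≤ b ⁻¹ᵁ V ∧
      y ∈ pullback.fst g b ⁻¹ᵁ W' ⊓ pullback.snd g b ⁻¹ᵁ T := fun y => by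
    obtain ⟨V, hV, hyV, -⟩ := exists_isAffineOpen_mem_and_subset
      (x := g (pullback.fst g b y)) (U := ⊤) trivial
    obtain ⟨W', hW', hyW, hWV⟩ := exists_isAffineOpen_mem_and_subset
      (x := pullback.fst g b y) (U := g ⁻¹ᵁ V) hyV
    obtain ⟨T, hT, hyT, hTV⟩ := exists_isAffineOpen_mem_and_subset
      (x := pullback.snd g b y) (U := b ⁻¹ᵁ V) (by
        show b (pullback.snd g b y) ∈ V
        rw [← Scheme.Hom.comp_apply, ← pullback.condition, Scheme.Hom.comp_apply]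
        exact hyV)
    exact ⟨V, W', T, hV, hW', hWV, hT, hTV, hyW, hyT⟩
  choose V W' T hV hW' hWV hT hTV hy using hcover
  have hC : ∀ y, IsAffineOpen (pullback.fst g b ⁻¹ᵁ W' y ⊓ pullback.snd g b ⁻¹ᵁ T y) := fun y =>
    pullbackChart_isAffine g b (hV y) (hW' y) (hWV y) (hT y) (hTV y)
  refine (IsZariskiLocalAtTarget.iff_of_iSup_eq_top (P := @IsClosedImmersion)
    (fun y => pullback.fst g b ⁻¹ᵁ W' y ⊓ pullback.snd g b ⁻¹ᵁ T y) (top_le_iff.mp fun y _ => ?_)).mpr fun y => ?_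
  · exact TopologicalSpace.Opens.mem_iSup.mpr ⟨y, hy y⟩
  have : IsAffine (pullback.fst g b ⁻¹ᵁ W' y ⊓ pullback.snd g b ⁻¹ᵁ T y).toScheme := hC y
  have : IsAffine (n ⁻¹ᵁ (pullback.fst g b ⁻¹ᵁ W' y ⊓ pullback.snd g b ⁻¹ᵁ T y)).toScheme :=
    isAffineOpen_preimage_chart hq hn (hV y) (hW' y) (hWV y) (hT y) (hTV y)
  refine IsClosedImmersion.of_surjective_of_isAffine _ ?_
  show Function.Surjective ((n ∣_ (pullback.fst g b ⁻¹ᵁ W' y ⊓ pullback.snd g b ⁻¹ᵁ T y)).appTop).hom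
  suffices hs : Function.Surjective (n.app (pullback.fst g b ⁻¹ᵁ W' y ⊓ pullback.snd g b ⁻¹ᵁ T y)).hom by
    rw [morphismRestrict_appTop]
    intro z
    obtain ⟨z₁, hz₁⟩ := (ConcreteCategory.bijective_of_isIso (Y'.presheaf.map (eqToHom
      (image_morphismRestrict_preimage n (pullback.fst g b ⁻¹ᵁ W' y ⊓ pullback.snd g b ⁻¹ᵁ T y) ⊤)).op)).2 z
    obtain ⟨z₂, rfl⟩ := surjective_app_congr n (Scheme.Opens.ι_image_top _).symm hs z₁
    exact ⟨z₂, hz₁⟩
  intro x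
  have := hq.isQuot.affine
  have hO : IsAffineOpen (q ⁻¹ᵁ W' y) := (hW' y).preimage q
  have hOV : q ⁻¹ᵁ W' y ≤ WidePullback.base (fun _ : Fin d => f) ⁻¹ᵁ V y := by
    rw [← hq.over, Scheme.Hom.comp_preimage]; exact q.preimage_mono (hWV y)
  have hst := stab_preimage hq (W' y)
  have hfix := fixed_pullback hn (W' y) (T y) hst x
  have hspan : (r.appLE _ _ (preimage_chart hn (W' y) (T y)).ge).hom x ∈
      invSpan (secAct hst) (pullSec w d (T y) (q ⁻¹ᵁ W' y)) (baseSec w d (T y) (q ⁻¹ᵁ W' y)) ⊤ := by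
    rcases H with hflat | hchar
    · exact good_sec w d (hV y) hO hst hOV (hT y) (hTV y) (Or.inl ⟨hflat, upHom_surjective⟩) _ hfix
    · let G := ULift.{u} (Equiv.Perm (Fin d))
      obtain ⟨c, hc⟩ : ∃ c, (Nat.card G : Γ(S', T y)) * c = 1 := by
        have h1 := (hchar (Nat.card G) Nat.card_pos).map ((S'.presheaf.map (homOfLE (le_top : T y ≤ ⊤)).op).hom)
        rw [map_natCast] at h1
        exact h1.exists_right_inv
      refine good_of_isUnit_card (pullSec_act w d hst) (baseSec_act w d hst) hc (fun l => ?_) _ hfix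
      have hst' : Stab ((upHom.{u} d).comp (⊥ : Subgroup G).subtype) (q ⁻¹ᵁ W' y) := fun σ => hst σ.1
      have h1 := good_sec w d (hV y) hO hst' hOV (hT y) (hTV y) (Or.inr fun σ => by
        rw [MonoidHom.comp_apply, Subgroup.coe_subtype, (Subgroup.mem_bot.mp σ.2), map_one]) l
        (fun σ _ => by
          rw [show σ = 1 from Subtype.ext (Subgroup.mem_bot.mp σ.2)]
          exact (secAct _).one l)
      refine AddSubgroup.closure_mono ?_ h1
      rintro _ ⟨a, t, ht, rfl⟩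
      exact ⟨a, t, fun σ hσ => ht ⟨σ, hσ⟩ trivial, rfl⟩
  obtain ⟨z, hz⟩ := mem_range_of_mem_invSpan hq hn hspan
  exact ⟨z, SymP31.quot_appLE_injective hn.quot (preimage_chart hn (W' y) (T y)) hz⟩

end Groth.Agent.Sym20
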