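import Groth.Agent.Sym20.FlatFixed
import Groth.Agent.Sym20.SymCompare

/-!
# Symmetric products of flat schemes are flat
-/

set_option autoImplicit false
universe u
open CategoryTheory CategoryTheory.Limits AlgebraicGeometry
open scoped TensorProduct

namespace Groth.Agent.Sym20

theorem flat_stable : RingHom.StableUnderCompositionWithLocalizationAwaySource RingHom.Flat :=
  (RingHom.Flat.stableUnderComposition.stableUnderCompositionWithLocalizationAway
    RingHom.Flat.holdsForLocalizationAway).left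

theorem flat_base {X S : Scheme.{u}} (f : X ⟶ S) [Flat f] (d : ℕ) :
    Flat (WidePullback.base fun _ : Fin d => f) := by
  classical
  refine (HasRingHomProperty.iff_exists_appLE (P := @Flat) flat_stable).mpr fun z => ?_
  obtain ⟨V, hV, hzV, -⟩ := exists_isAffineOpen_mem_and_subset
    (x := WidePullback.base (fun _ : Fin d => f) z) (U := ⊤) trivial
  choose U hU hzU hUV using fun i : ULift.{u} (Fin d) => exists_isAffineOpen_mem_and_subset
    (x := WidePullback.π (fun _ : Fin d => f) i.down z) (U := f ⁻¹ᵁ V) (by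
      show f _ ∈ V
      rw [SymP31.base_apply]; exact hzV)
  let c : Fin d → ULift.{u} (Fin d) := ULift.up
  refine ⟨⟨V, hV⟩, ⟨cbox f d V U c, isAffineOpen_cbox hV hU hUV⟩,
    mem_cbox.mpr ⟨hzV, fun i => hzU ⟨i⟩⟩, cbox_le_base f d V U c, ?_⟩
  letI := piAlgebra hUV
  have : Module.Flat Γ(S, V) (∀ a, Γ(X, U a)) := by
    letI : ∀ a, Algebra Γ(S, V) Γ(X, U a) := fun a => (f.appLE V (U a) (hUV a)).hom.toAlgebra
    have : ∀ a, Module.Flat Γ(S, V) Γ(X, U a) := fun a =>
      HasRingHomProperty.appLE @Flat f inferInstance ⟨V, hV⟩ ⟨U a, hU a⟩ (hUV a)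
    exact Module.Flat.of_linearEquiv (M := DirectSum (ULift.{u} (Fin d)) fun a => Γ(X, U a))
      ({ (DirectSum.linearEquivFunOnFintype Γ(S, V) (ULift.{u} (Fin d)) fun a => Γ(X, U a)).toAddEquiv with
        map_smul' := fun t z => by
          show DirectSum.linearEquivFunOnFintype Γ(S, V) (ULift.{u} (Fin d)) (fun a => Γ(X, U a)) (t • z) = _
          rw [map_smul]
          funext a
          exact Algebra.smul_def t _ } :
        (DirectSum (ULift.{u} (Fin d)) fun a => Γ(X, U a)) ≃ₗ[Γ(S, V)] (∀ a, Γ(X, U a))).symm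
  have := flat_tensorPower (A := Γ(S, V)) (M := ∀ a, Γ(X, U a)) d
  letI : Algebra _ Γ(SymProd.fibPow f d, cbox f d V U c) := (boxHom c hUV).toAlgebra
  have := isLocalization_boxHom c hUV hV hU
  letI : Algebra Γ(S, V) Γ(SymProd.fibPow f d, cbox f d V U c) :=
    ((WidePullback.base (fun _ : Fin d => f)).appLE V (cbox f d V U c) (cbox_le_base f d V U c)).hom.toAlgebra
  have : IsScalarTower Γ(S, V) (⨂[Γ(S, V)] _ : Fin d, (∀ a, Γ(X, U a)))
      Γ(SymProd.fibPow f d, cbox f d V U c) :=
    IsScalarTower.of_algebraMap_eq fun r => (boxHom_algebraMap c hUV r).symm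
  have : Module.Flat (⨂[Γ(S, V)] _ : Fin d, (∀ a, Γ(X, U a))) Γ(SymProd.fibPow f d, cbox f d V U c) :=
    IsLocalization.flat _ (Submonoid.powers (boxIdem c hUV))
  exact Module.Flat.trans Γ(S, V) (⨂[Γ(S, V)] _ : Fin d, (∀ a, Γ(X, U a)))
    Γ(SymProd.fibPow f d, cbox f d V U c)

/-- Elements dying in `A ⧸ I ⊗ R` lie in `I R`. -/
theorem mem_smul_top_of_one_tmul_eq_zero {A B R : Type*} [CommRing A] [CommRing B] [Algebra A B]
    [AddCommGroup R] [Module A R] (hs : Function.Surjective (algebraMap A B)) {r : R}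
    (h : (1 : B) ⊗ₜ[A] r = 0) : r ∈ RingHom.ker (algebraMap A B) • (⊤ : Submodule A R) := by
  let I : Ideal A := RingHom.ker (algebraMap A B)
  let β := Algebra.linearMap A B
  have hex : Function.Exact (Submodule.subtype I) β := fun a => by
    constructor
    · intro ha; exact ⟨⟨a, ha⟩, rfl⟩
    · rintro ⟨⟨b, hb⟩, rfl⟩; exact hb
  obtain ⟨w, hw⟩ := (rTensor_exact R hex hs ((1 : A) ⊗ₜ[A] r)).mp
    (by rw [LinearMap.rTensor_tmul, show β 1 = 1 from map_one (algebraMap A B)]; exact h)
  have e : TensorProduct.lid A R ((Submodule.subtype I).rTensor R w) = r := by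
    rw [hw, TensorProduct.lid_tmul, one_smul]
  rw [← e]
  clear hw e
  induction w with
  | zero => simp
  | tmul a m =>
    rw [LinearMap.rTensor_tmul, TensorProduct.lid_tmul]
    exact Submodule.smul_mem_smul a.2 Submodule.mem_top
  | add x y hx hy => rw [map_add, map_add]; exact add_mem hx hy

section closed

variable {X S S' : Scheme.{u}} {f : X ⟶ S} {b : S' ⟶ S} {d : ℕ}

/-- Over an affine closed subscheme of the base, sections killed by restriction lie in `I R`. -/
theorem mem_smul_top_of_pullSec_eq_zero {V : S.Opens} (hV : IsAffineOpen V)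
    {O : (SymProd.fibPow f d).Opens} (hO : IsAffineOpen O)
    (hOV : O ≤ WidePullback.base (fun _ : Fin d => f) ⁻¹ᵁ V) {T : S'.Opens} (hT : IsAffineOpen T)
    (hTV : T ≤ b ⁻¹ᵁ V) (hs : Function.Surjective (b.appLE V T hTV).hom)
    {r : Γ(SymProd.fibPow f d, O)} (h : pullSec (pullback.condition (f := f) (g := b)) d T O r = 0) :
    letI := ((WidePullback.base (fun _ : Fin d => f)).appLE V O hOV).hom.toAlgebra
    r ∈ RingHom.ker (b.appLE V T hTV).hom • (⊤ : Submodule Γ(S, V) Γ(SymProd.fibPow f d, O)) := by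
  letI := ((WidePullback.base (fun _ : Fin d => f)).appLE V O hOV).hom.toAlgebra
  let w := pullback.condition (f := f) (g := b)
  set C := subO w d T O with hC
  have hP := SymP31.isPullback_fibPow f d b (cmap w d) (cmap_π w d) (cmap_base w d)
  have hp := (isIso_pushoutSection_iff (US := V) (UT := O) (UX := T) (UY := C) hP.flip hOV hTV
    (by rw [inf_comm]; rfl)).mp (isIso_pushoutSection_of_isAffineOpen hP.flip hOV hTV _ hV hO hT)
  let := (b.appLE V T hTV).hom.toAlgebra
  let := ((WidePullback.base (fun _ : Fin d => pullback.snd f b)).appLE T C (subO_le_base w d T O)).hom.toAlgebra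
  let := ((cmap w d).appLE O C (subO_le_cmap w d T O)).hom.toAlgebra
  let := (b.appLE V T hTV ≫
    (WidePullback.base (fun _ : Fin d => pullback.snd f b)).appLE T C (subO_le_base w d T O)).hom.toAlgebra
  have := IsScalarTower.of_algebraMap_eq' (R := Γ(S, V)) (S := Γ(S', T))
    (A := Γ(SymProd.fibPow (pullback.snd f b) d, C)) rfl
  have := IsScalarTower.of_algebraMap_eq' (R := Γ(S, V)) (S := Γ(SymProd.fibPow f d, O))
    (A := Γ(SymProd.fibPow (pullback.snd f b) d, C)) congr($(hp.w).hom)
  have hp' : Algebra.IsPushout Γ(S, V) Γ(S', T) Γ(SymProd.fibPow f d, O)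
      Γ(SymProd.fibPow (pullback.snd f b) d, C) := CommRingCat.isPushout_iff_isPushout.mp hp
  refine mem_smul_top_of_one_tmul_eq_zero (B := Γ(S', T)) hs ?_
  apply (Algebra.IsPushout.equiv Γ(S, V) Γ(S', T) Γ(SymProd.fibPow f d, O)
    Γ(SymProd.fibPow (pullback.snd f b) d, C)).injective
  rw [map_zero, Algebra.IsPushout.equiv_tmul, map_one, one_mul]
  exact h

/-- Sections invariant modulo the kernel of `b` are invariant sections plus the kernel. -/
theorem exists_fixed_sub_mem [Flat f] {V : S.Opens} (hV : IsAffineOpen V)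
    {O : (SymProd.fibPow f d).Opens} (hO : IsAffineOpen O) (hst : Stab (upHom.{u} d) O)
    (hOV : O ≤ WidePullback.base (fun _ : Fin d => f) ⁻¹ᵁ V) {T : S'.Opens} (hT : IsAffineOpen T)
    (hTV : T ≤ b ⁻¹ᵁ V) (hs : Function.Surjective (b.appLE V T hTV).hom)
    (r : Γ(SymProd.fibPow f d, O))
    (hr : letI := ((WidePullback.base (fun _ : Fin d => f)).appLE V O hOV).hom.toAlgebra
      ∀ σ, (secAct hst).a σ r - r ∈
        RingHom.ker (b.appLE V T hTV).hom • (⊤ : Submodule Γ(S, V) Γ(SymProd.fibPow f d, O))) :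
    letI := ((WidePullback.base (fun _ : Fin d => f)).appLE V O hOV).hom.toAlgebra
    ∃ m, (∀ σ, (secAct hst).a σ m = m) ∧ r - m ∈
      RingHom.ker (b.appLE V T hTV).hom • (⊤ : Submodule Γ(S, V) Γ(SymProd.fibPow f d, O)) := by
  letI := ((WidePullback.base (fun _ : Fin d => f)).appLE V O hOV).hom.toAlgebra
  let w := pullback.condition (f := f) (g := b)
  have : IsClosedImmersion (pullback.lift (pullback.fst f b) (pullback.snd f b) w :
      pullback f b ⟶ pullback f b) := by
    rw [show pullback.lift (pullback.fst f b) (pullback.snd f b) w = 𝟙 _ by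
      apply pullback.hom_ext <;> simp]
    infer_instance
  have hbase : ∀ a : Γ(S, V), baseSec w d T O ((b.appLE V T hTV).hom a) =
      pullSec w d T O (((WidePullback.base (fun _ : Fin d => f)).appLE V O hOV).hom a) := fun a => by
    show ((WidePullback.base (fun _ : Fin d => pullback.snd f b)).appLE T _ _).hom _ =
      ((cmap w d).appLE O _ _).hom _
    rw [SymP31.appLE_trans, SymP31.appLE_trans, SymP31.appLE_congr_hom (cmap_base w d)]
  have hker : ∀ x ∈ RingHom.ker (b.appLE V T hTV).hom • (⊤ : Submodule Γ(S, V) Γ(SymProd.fibPow f d, O)),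
      pullSec w d T O x = 0 := fun x hx => by
    refine Submodule.smul_induction_on hx (fun a ha m _ => ?_) fun x y hx hy => by rw [map_add, hx, hy, add_zero]
    rw [Algebra.smul_def, map_mul]
    show pullSec w d T O (((WidePullback.base (fun _ : Fin d => f)).appLE V O hOV).hom a) * _ = 0
    rw [← hbase, show (b.appLE V T hTV).hom a = 0 from ha, map_zero, zero_mul]
  have hl : (secAct (stab_subO w d (T := T) hst)).Fixed ⊤ (pullSec w d T O r) := fun σ _ => by
    rw [pullSec_act w d hst, ← sub_eq_zero, ← map_sub]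
    exact hker _ (hr σ)
  have hmem := good_sec w d hV hO hst hOV hT hTV (Or.inl ⟨inferInstance, upHom_surjective⟩) _ hl
  obtain ⟨m, hm, hme⟩ : ∃ m, (secAct hst).Fixed ⊤ m ∧ pullSec w d T O m = pullSec w d T O r := by
    revert hmem
    generalize pullSec w d T O r = l
    intro hmem
    induction hmem using AddSubgroup.closure_induction with
    | mem z hz =>
      obtain ⟨a, t, ht, rfl⟩ := hz
      obtain ⟨a', rfl⟩ := hs a
      refine ⟨((WidePullback.base (fun _ : Fin d => f)).appLE V O hOV).hom a' * t, ?_, ?_⟩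
      · refine Act.Fixed.mul (fun σ _ => ?_) ht
        show ((SymProd.permHom f d (upHom d σ).symm).appLE O O _).hom _ = _
        rw [SymP31.appLE_trans, SymP31.appLE_congr_hom (SymProd.permHom_base f d _)]
      · rw [map_mul, hbase]
    | zero => exact ⟨0, (fixedRing (secAct hst)).zero_mem, map_zero _⟩
    | add u v _ _ hu hv =>
      obtain ⟨m, hm, rfl⟩ := hu
      obtain ⟨m', hm', rfl⟩ := hv
      exact ⟨m + m', hm.add hm', map_add _ _ _⟩
    | neg u _ hu =>
      obtain ⟨m, hm, rfl⟩ := hu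
      exact ⟨-m, (fixedRing (secAct hst)).neg_mem hm, map_neg _ _⟩
  exact ⟨m, fun σ => hm σ trivial,
    mem_smul_top_of_pullSec_eq_zero hV hO hOV hT hTV hs (by rw [map_sub, hme, sub_self])⟩

end closed

theorem flat_of_isSymProd {X S Y : Scheme.{u}} {f : X ⟶ S} [Flat f] {d : ℕ}
    {q : SymProd.fibPow f d ⟶ Y} {g : Y ⟶ S} (hq : SymProd.IsSymProd f d q g) : Flat g := by
  have := flat_base f d
  refine (HasRingHomProperty.iff_exists_appLE (P := @Flat) flat_stable).mpr fun y => ?_
  obtain ⟨V, hV, hyV, -⟩ := exists_isAffineOpen_mem_and_subset (x := g y) (U := ⊤) trivial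
  obtain ⟨W', hW', hyW, hWV⟩ := exists_isAffineOpen_mem_and_subset (x := y) (U := g ⁻¹ᵁ V) hyV
  refine ⟨⟨V, hV⟩, ⟨W', hW'⟩, hyW, hWV, ?_⟩
  have := hq.isQuot.affine
  let O := q ⁻¹ᵁ W'
  have hO : IsAffineOpen O := hW'.preimage q
  have hst := stab_preimage hq W'
  have hOV : O ≤ WidePullback.base (fun _ : Fin d => f) ⁻¹ᵁ V := by
    rw [← hq.over, Scheme.Hom.comp_preimage]; exact q.preimage_mono hWV
  letI := (g.appLE V W' hWV).hom.toAlgebra
  letI := ((WidePullback.base (fun _ : Fin d => f)).appLE V O hOV).hom.toAlgebra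
  have : Module.Flat Γ(S, V) Γ(SymProd.fibPow f d, O) :=
    HasRingHomProperty.appLE @Flat _ inferInstance ⟨V, hV⟩ ⟨O, hO⟩ hOV
  let σ : ULift.{u} (Equiv.Perm (Fin d)) → Γ(SymProd.fibPow f d, O) →ₗ[Γ(S, V)] Γ(SymProd.fibPow f d, O) :=
    fun i =>
    { toFun := (secAct hst).a i
      map_add' := map_add _
      map_smul' := fun a x => by
        rw [Algebra.smul_def, map_mul, RingHom.id_apply, Algebra.smul_def]
        congr 1
        show ((SymProd.permHom f d (upHom d i).symm).appLE O O _).hom _ = _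
        rw [RingHom.algebraMap_toAlgebra, SymP31.appLE_trans,
          SymP31.appLE_congr_hom (SymProd.permHom_base f d _)] }
  have hflat : Module.Flat Γ(S, V) (LinearMap.ker (diffMap σ)) := flat_fixed σ fun I r hr => by
    let φ : Γ(S, V) ⟶ CommRingCat.of (Γ(S, V) ⧸ I) := CommRingCat.ofHom (Ideal.Quotient.mk I)
    let b : Spec (CommRingCat.of (Γ(S, V) ⧸ I)) ⟶ S := Spec.map φ ≫ hV.fromSpec
    have hTV : (⊤ : (Spec (CommRingCat.of (Γ(S, V) ⧸ I))).Opens) ≤ b ⁻¹ᵁ V := by
      rw [Scheme.Hom.comp_preimage, hV.fromSpec_preimage_self]; exact le_rfl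
    have hb : b.appLE V ⊤ hTV = φ ≫ (Scheme.ΓSpecIso _).inv := by
      rw [Scheme.ΓSpecIso_inv_naturality]
      have h1 : hV.fromSpec.appLE V ⊤ hV.fromSpec_preimage_self.ge = (Scheme.ΓSpecIso Γ(S, V)).inv := by
        rw [Scheme.Hom.appLE, hV.fromSpec_app_self, Category.assoc, ← Functor.map_comp]
        exact (congrArg _ ((congrArg _ (Subsingleton.elim _ (𝟙 _))).trans (CategoryTheory.Functor.map_id _ _))).trans
          (Category.comp_id _)
      show (Spec.map φ ≫ hV.fromSpec).appLE V ⊤ hTV = _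
      rw [← Scheme.Hom.appLE_comp_appLE (Spec.map φ) hV.fromSpec V ⊤ ⊤ hV.fromSpec_preimage_self.ge le_rfl, h1]
      exact congrArg _ (Scheme.Hom.appLE_eq_app (Spec.map φ))
    have hs : Function.Surjective (b.appLE V ⊤ hTV).hom := by
      rw [hb]
      exact (ConcreteCategory.bijective_of_isIso (Scheme.ΓSpecIso _).inv).surjective.comp
        Ideal.Quotient.mk_surjective
    have hk : RingHom.ker (b.appLE V ⊤ hTV).hom = I := by
      rw [hb]
      ext a
      show (Scheme.ΓSpecIso (CommRingCat.of (Γ(S, V) ⧸ I))).inv.hom (Ideal.Quotient.mk I a) = 0 ↔ a ∈ I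
      exact (map_eq_zero_iff _ (ConcreteCategory.bijective_of_isIso
        (Scheme.ΓSpecIso (CommRingCat.of (Γ(S, V) ⧸ I))).inv).injective).trans Ideal.Quotient.eq_zero_iff_mem
    have h1 := exists_fixed_sub_mem hV hO hst hOV (isAffineOpen_top _) hTV hs r (by rw [hk]; exact hr)
    rw [hk] at h1
    exact h1
  have hfix : ∀ t, t ∈ LinearMap.ker (diffMap σ) ↔ t ∈ Set.range (q.app W').hom := fun t => by
    rw [LinearMap.mem_ker, funext_iff, hq.isQuot.range_iff W' t]
    constructor
    · intro ht τ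
      have h1 := sub_eq_zero.mp (ht ⟨τ.down.symm⟩)
      change ((SymProd.permHom f d τ.down.symm.symm).appLE _ _ _).hom t = t at h1
      simp only [Equiv.symm_symm] at h1
      exact h1
    · intro ht i
      exact sub_eq_zero.mpr (ht ⟨(upHom d i).symm⟩)
  let e : Γ(Y, W') →ₗ[Γ(S, V)] LinearMap.ker (diffMap σ) :=
    { toFun := fun x => ⟨(q.app W').hom x, (hfix _).mpr ⟨x, rfl⟩⟩
      map_add' := fun x y => Subtype.ext (map_add _ x y)
      map_smul' := fun a x => Subtype.ext (by
        show (q.app W').hom (a • x) = a • (q.app W').hom x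
        rw [Algebra.smul_def, map_mul, Algebra.smul_def]
        congr 1
        show (q.app W').hom ((g.appLE V W' hWV).hom a) = _
        rw [← Scheme.Hom.appLE_eq_app, SymP31.appLE_trans (e₁ := hWV) (e₂ := le_rfl)]
        exact SymP31.appLE_congr_hom hq.over _ a) }
  have he : Function.Bijective e := ⟨fun x y h => hq.isQuot.injective W' (congrArg Subtype.val h),
    fun t => by
      obtain ⟨x, hx⟩ := (hfix t.1).mp t.2
      exact ⟨x, Subtype.ext hx⟩⟩
  exact Module.Flat.of_linearEquiv (LinearEquiv.ofBijective e he)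

end Groth.Agent.Sym20
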