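import Groth.Agent.Sym20.QuotBC
import Groth.Agent.Sym20.FlatBase

/-!
# Products of symmetric products
-/

set_option autoImplicit false
universe u
open CategoryTheory CategoryTheory.Limits AlgebraicGeometry

namespace Groth.Agent.Sym20

/-- Successive quotients. -/
theorem isQuot_comp {X M Y : Scheme.{u}} {K G H : Type u} [Group K] [Group G] [Group H]
    (ρ : K →* Aut X) (i : G →* K) (j : H → K) (hgen : ∀ k, ∃ g h, k = i g * j h)
    {ρ1 : G →* Aut X} {p1 : X ⟶ M} (h1 : SGA1.IsQuot ρ1 p1) (hi : ∀ g, (ρ (i g)).hom = (ρ1 g).hom)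
    {ρ2 : H →* Aut M} {p2 : M ⟶ Y} (h2 : SGA1.IsQuot ρ2 p2)
    (hj : ∀ h, (ρ (j h)).hom ≫ p1 = p1 ≫ (ρ2 h).hom) : SGA1.IsQuot ρ (p1 ≫ p2) := by
  have := h1.affine
  have := h2.affine
  have hjinv : ∀ h, (ρ (j h)).hom ≫ p1 ≫ p2 = p1 ≫ p2 := fun h => by
    rw [← Category.assoc, hj, Category.assoc, h2.inv]
  have hinv : ∀ k, (ρ k).hom ≫ p1 ≫ p2 = p1 ≫ p2 := fun k => by
    obtain ⟨g, h, rfl⟩ := hgen k
    rw [Quot84.hom_mul, Category.assoc, ← Category.assoc (ρ (i g)).hom, hi, h1.inv, hjinv]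
  refine ⟨inferInstance, hinv, fun U => ?_, fun U s => ⟨?_, fun hs => ?_⟩⟩
  · intro a b hab
    exact h2.injective U (h1.injective (p2 ⁻¹ᵁ U) hab)
  · rintro ⟨t, rfl⟩ k
    exact Quot84.app_pull_apply (p1 ≫ p2) (hinv k) U t
  · obtain ⟨t, rfl⟩ := (h1.range_iff (p2 ⁻¹ᵁ U) s).mpr fun g =>
      (SymP31.appLE_congr_hom (hi g).symm _ _).trans (hs (i g))
    obtain ⟨v, rfl⟩ := (h2.range_iff U t).mpr fun h => h1.injective _ (by
      refine Eq.trans ?_ (hs (j h))
      rw [← Scheme.Hom.appLE_eq_app]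
      exact (SymP31.appLE_trans p1 (ρ2 h).hom _ _ t).trans ((SymP31.appLE_congr_hom (hj h).symm _ t).trans
        (SymP31.appLE_trans (ρ (j h)).hom p1 _ _ t).symm))
    exact ⟨v, rfl⟩

theorem exists_sndMap {P R S : Scheme.{u}} (p : P ⟶ S) (r : R ⟶ S) (t : R ⟶ R) (ht : t ≫ r = r) :
    ∃ m : pullback p r ⟶ pullback p r, m ≫ pullback.fst p r = pullback.fst p r ∧
      m ≫ pullback.snd p r = pullback.snd p r ≫ t :=
  ⟨pullback.lift (pullback.fst p r) (pullback.snd p r ≫ t) (by rw [Category.assoc, ht, pullback.condition]),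
    pullback.lift_fst _ _ _, pullback.lift_snd _ _ _⟩

/-- The action on the second factor of a fibre product. -/
theorem exists_sndAct {P R S : Scheme.{u}} (p : P ⟶ S) (r : R ⟶ S) {H : Type u} [Group H]
    (θ : H →* Aut R) (hθ : ∀ h, (θ h).hom ≫ r = r) :
    ∃ ρ : H →* Aut (pullback p r), (∀ h, (ρ h).hom ≫ pullback.fst p r = pullback.fst p r) ∧
      ∀ h, (ρ h).hom ≫ pullback.snd p r = pullback.snd p r ≫ (θ h).hom := by
  choose m hm1 hm2 using fun h => exists_sndMap p r (θ h).hom (hθ h)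
  have hmul : ∀ a b, m (a * b) = m b ≫ m a := fun a b => by
    apply pullback.hom_ext
    · rw [hm1, Category.assoc, hm1, hm1]
    · rw [hm2, Category.assoc, hm2, ← Category.assoc, hm2, Category.assoc, ← Quot84.hom_mul]
  have hone : m 1 = 𝟙 _ := by
    apply pullback.hom_ext
    · rw [hm1, Category.id_comp]
    · rw [hm2, Quot84.hom_one, Category.comp_id, Category.id_comp]
  refine ⟨{ toFun := fun h => ⟨m h, m h⁻¹, by rw [← hmul, inv_mul_cancel, hone],
              by rw [← hmul, mul_inv_cancel, hone]⟩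
            map_one' := Iso.ext hone
            map_mul' := fun a b => Iso.ext (hmul a b) }, hm1, hm2⟩

theorem isUnit_card {T S : Scheme.{u}} (b : T ⟶ S)
    (hS : ∀ n : ℕ, 0 < n → IsUnit ((n : ℕ) : Γ(S, ⊤))) (G : Type u) [Group G] [Finite G] :
    IsUnit ((Nat.card G : ℕ) : Γ(T, ⊤)) := by
  have h1 := (hS (Nat.card G) Nat.card_pos).map b.appTop.hom
  rwa [map_natCast] at h1

theorem isQuot_prod_symProd {X Z S P Q : Scheme.{u}} {f : X ⟶ S} {g : Z ⟶ S} {d e : ℕ}
    (h : (Flat f ∧ Flat g) ∨ ∀ n : ℕ, 0 < n → IsUnit ((n : ℕ) : Γ(S, ⊤)))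
    {qX : SymProd.fibPow f d ⟶ P} {pP : P ⟶ S} (hqX : SymProd.IsSymProd f d qX pP)
    {qZ : SymProd.fibPow g e ⟶ Q} {pQ : Q ⟶ S} (hqZ : SymProd.IsSymProd g e qZ pQ)
    (ρ : ULift.{u} (Equiv.Perm (Fin d) × Equiv.Perm (Fin e)) →*
      Aut (pullback (WidePullback.base fun _ : Fin d => f) (WidePullback.base fun _ : Fin e => g)))
    (hρ : ∀ σ, (ρ σ).hom ≫ pullback.fst (WidePullback.base fun _ : Fin d => f) (WidePullback.base fun _ : Fin e => g) =
        pullback.fst (WidePullback.base fun _ : Fin d => f) (WidePullback.base fun _ : Fin e => g) ≫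
          SymProd.permHom f d σ.down.1 ∧
      (ρ σ).hom ≫ pullback.snd (WidePullback.base fun _ : Fin d => f) (WidePullback.base fun _ : Fin e => g) =
        pullback.snd (WidePullback.base fun _ : Fin d => f) (WidePullback.base fun _ : Fin e => g) ≫
          SymProd.permHom g e σ.down.2) :
    SGA1.IsQuot ρ (pullback.map (WidePullback.base fun _ : Fin d => f) (WidePullback.base fun _ : Fin e => g) pP pQ
      qX qZ (𝟙 S) ((Category.comp_id _).trans hqX.over.symm) ((Category.comp_id _).trans hqZ.over.symm)) := by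
  let bX := WidePullback.base fun _ : Fin d => f
  let bZ := WidePullback.base fun _ : Fin e => g
  let ψ1 : pullback bX bZ ⟶ pullback pP bZ := pullback.map bX bZ pP bZ qX (𝟙 _) (𝟙 S)
    ((Category.comp_id _).trans hqX.over.symm) ((Category.comp_id _).trans (Category.id_comp _).symm)
  let ψ2 : pullback pP bZ ⟶ pullback pP pQ := pullback.map pP bZ pP pQ (𝟙 _) qZ (𝟙 S)
    ((Category.comp_id _).trans (Category.id_comp _).symm) ((Category.comp_id _).trans hqZ.over.symm)
  have hψ11 : ψ1 ≫ pullback.fst pP bZ = pullback.fst bX bZ ≫ qX := pullback.lift_fst _ _ _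
  have hψ12 : ψ1 ≫ pullback.snd pP bZ = pullback.snd bX bZ :=
    (pullback.lift_snd _ _ _).trans (Category.comp_id _)
  have hψ21 : ψ2 ≫ pullback.fst pP pQ = pullback.fst pP bZ :=
    (pullback.lift_fst _ _ _).trans (Category.comp_id _)
  have hψ22 : ψ2 ≫ pullback.snd pP pQ = pullback.snd pP bZ ≫ qZ := pullback.lift_snd _ _ _
  have hP1 : IsPullback (pullback.fst bX bZ) ψ1 qX (pullback.fst pP bZ) := by
    refine IsPullback.of_bot ?_ hψ11.symm (IsPullback.of_hasPullback pP bZ)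
    rw [hψ12, hqX.over]
    exact IsPullback.of_hasPullback bX bZ
  have hP2 : IsPullback (pullback.snd pP bZ) ψ2 qZ (pullback.snd pP pQ) := by
    refine IsPullback.of_bot ?_ hψ22.symm (IsPullback.of_hasPullback pP pQ).flip
    rw [hψ21, hqZ.over]
    exact (IsPullback.of_hasPullback pP bZ).flip
  let iX : ULift.{u} (Equiv.Perm (Fin d)) →* ULift.{u} (Equiv.Perm (Fin d) × Equiv.Perm (Fin e)) :=
    MulEquiv.ulift.symm.toMonoidHom.comp ((MonoidHom.inl _ _).comp MulEquiv.ulift.toMonoidHom)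
  let jZ : ULift.{u} (Equiv.Perm (Fin e)) → ULift.{u} (Equiv.Perm (Fin d) × Equiv.Perm (Fin e)) :=
    fun τ => ⟨(1, τ.down)⟩
  have hperm1 : SymProd.permHom f d 1 = 𝟙 _ := SymProd.permHom_one f d
  have hperm2 : SymProd.permHom g e 1 = 𝟙 _ := SymProd.permHom_one g e
  have hρ1 : ∀ σ, ((ρ.comp iX) σ).hom ≫ pullback.fst bX bZ =
      pullback.fst bX bZ ≫ (SymProd.permActU f d σ).hom := fun σ => (hρ (iX σ)).1
  have hρ1' : ∀ σ, ((ρ.comp iX) σ).hom ≫ pullback.snd bX bZ = pullback.snd bX bZ := fun σ =>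
    ((hρ (iX σ)).2).trans (by
      show _ ≫ SymProd.permHom g e 1 = _
      rw [hperm2, Category.comp_id])
  have H1 : Flat (pullback.fst pP bZ) ∨
      IsUnit ((Nat.card (ULift.{u} (Equiv.Perm (Fin d))) : ℕ) : Γ(pullback pP bZ, ⊤)) :=
    h.imp (fun h => by have := h.2; have := flat_base g e; infer_instance)
      (fun h => isUnit_card (pullback.fst pP bZ ≫ pP) h _)
  have hq1 : SGA1.IsQuot (ρ.comp iX) ψ1 := baseChange_isQuot hqX.isQuot _ _ _ hP1 _ hρ1 (fun σ => by
    apply pullback.hom_ext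
    · rw [Category.assoc, hψ11, ← Category.assoc, hρ1, Category.assoc, hqX.isQuot.inv]
    · rw [Category.assoc, hψ12, hρ1']) H1
  obtain ⟨ρ2, hρ21, hρ22⟩ := exists_sndAct pP bZ (SymProd.permActU g e)
    fun τ => SymProd.permHom_base g e τ.down
  have H2 : Flat (pullback.snd pP pQ) ∨
      IsUnit ((Nat.card (ULift.{u} (Equiv.Perm (Fin e))) : ℕ) : Γ(pullback pP pQ, ⊤)) :=
    h.imp (fun h => by have := h.1; have := flat_of_isSymProd hqX; infer_instance)
      (fun h => isUnit_card (pullback.fst pP pQ ≫ pP) h _)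
  have hq2 : SGA1.IsQuot ρ2 ψ2 := baseChange_isQuot hqZ.isQuot _ _ _ hP2 _ hρ22 (fun τ => by
    apply pullback.hom_ext
    · rw [Category.assoc, hψ21, hρ21]
    · rw [Category.assoc, hψ22, ← Category.assoc, hρ22, Category.assoc, hqZ.isQuot.inv]) H2
  have hmain := isQuot_comp ρ iX jZ (fun k => ⟨⟨k.down.1⟩, ⟨k.down.2⟩,
      ULift.ext _ _ (Prod.ext (mul_one k.down.1).symm (one_mul k.down.2).symm)⟩)
    hq1 (fun σ => rfl) hq2 (fun τ => by
      apply pullback.hom_ext
      · rw [Category.assoc, hψ11, Category.assoc, hρ21, hψ11, ← Category.assoc, (hρ (jZ τ)).1]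
        show (pullback.fst bX bZ ≫ SymProd.permHom f d 1) ≫ qX = _
        rw [hperm1, Category.comp_id]
      · rw [Category.assoc, hψ12, Category.assoc, hρ22, ← Category.assoc, hψ12, (hρ (jZ τ)).2]
        rfl)
  refine (congrArg (SGA1.IsQuot ρ) ?_).mp hmain
  apply pullback.hom_ext
  · rw [Category.assoc, hψ21, hψ11, pullback.lift_fst]
  · rw [Category.assoc, hψ22, ← Category.assoc, hψ12, pullback.lift_snd]

end Groth.Agent.Sym20
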