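import Groth.Agent.SymP31.Tensor

/-!
# Charts `U_{c 1} × ⋯ × U_{c d}` of fibre powers, as localisations of tensor powers of `∏_a Γ(U_a)`
-/

set_option autoImplicit false
universe u
open CategoryTheory CategoryTheory.Limits AlgebraicGeometry
open scoped TensorProduct

namespace Groth.Agent.Sym20

/-- The Young subgroup of a colouring. -/
def young {d : ℕ} {Λ : Type*} (c : Fin d → Λ) : Subgroup (Equiv.Perm (Fin d)) where
  carrier := {σ | ∀ i, c (σ i) = c i}
  one_mem' := fun _ => rfl
  mul_mem' := fun {σ τ} hσ hτ i => by rw [Equiv.Perm.mul_apply, hσ, hτ]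
  inv_mem' := fun {σ} hσ i => by
    conv_rhs => rw [← Equiv.apply_symm_apply σ i]
    rw [hσ]; rfl

theorem mem_young {d : ℕ} {Λ : Type*} {c : Fin d → Λ} {σ : Equiv.Perm (Fin d)} :
    σ ∈ young c ↔ ∀ i, c (σ i) = c i := Iff.rfl

theorem young_symm {d : ℕ} {Λ : Type*} {c : Fin d → Λ} {σ : Equiv.Perm (Fin d)} (h : σ ∈ young c) (i : Fin d) :
    c (σ.symm i) = c i := (young c).inv_mem h i

variable {X S : Scheme.{u}} (f : X ⟶ S) (d : ℕ) {Λ : Type u} [Fintype Λ] [DecidableEq Λ]
  (V : S.Opens) (U : Λ → X.Opens) (c : Fin d → Λ)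

/-- The chart `U_{c 1} ×_V ⋯ ×_V U_{c d}`. -/
noncomputable def cbox : (SymProd.fibPow f d).Opens :=
  (WidePullback.base (fun _ : Fin d => f) ⁻¹ᵁ V) ⊓
    ⨅ i : Fin d, WidePullback.π (fun _ : Fin d => f) i ⁻¹ᵁ U (c i)

variable {f d V U c}

theorem mem_cbox {z : SymProd.fibPow f d} :
    z ∈ cbox f d V U c ↔ WidePullback.base (fun _ : Fin d => f) z ∈ V ∧
      ∀ i, WidePullback.π (fun _ : Fin d => f) i z ∈ U (c i) := by
  rw [cbox, TopologicalSpace.Opens.mem_inf, ← SetLike.mem_coe (p := ⨅ i, _),
    TopologicalSpace.Opens.coe_iInf, Set.mem_iInter]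
  rfl

variable (f d V U c)

theorem cbox_le_base : cbox f d V U c ≤ WidePullback.base (fun _ : Fin d => f) ⁻¹ᵁ V :=
  fun _ hz => (mem_cbox.mp hz).1

theorem cbox_le_π (i : Fin d) : cbox f d V U c ≤ WidePullback.π (fun _ : Fin d => f) i ⁻¹ᵁ U (c i) :=
  fun _ hz => (mem_cbox.mp hz).2 i

theorem cbox_le_perm {σ : Equiv.Perm (Fin d)} (hσ : σ ∈ young c) :
    cbox f d V U c ≤ SymProd.permHom f d σ ⁻¹ᵁ cbox f d V U c := fun z hz => by
  show SymProd.permHom f d σ z ∈ cbox f d V U c
  rw [mem_cbox, SymP31.base_permHom]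
  refine ⟨(mem_cbox.mp hz).1, fun i => ?_⟩
  rw [SymP31.π_permHom, ← young_symm hσ i]
  exact (mem_cbox.mp hz).2 _

variable {f d V U c}

theorem isAffineOpen_cbox (hV : IsAffineOpen V) (hU : ∀ a, IsAffineOpen (U a)) (hle : ∀ a, U a ≤ f ⁻¹ᵁ V) :
    IsAffineOpen (cbox f d V U c) := by
  have : ∀ i, IsAffine (U (c i)).toScheme := fun i => hU _
  have : IsAffine V.toScheme := hV
  let r : ∀ i : Fin d, (U (c i)).toScheme ⟶ V.toScheme := fun i => f.resLE V (U (c i)) (hle _)
  have : IsAffine (widePullback V.toScheme (fun i : Fin d => (U (c i)).toScheme) r) := by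
    have : ∀ j, IsAffine ((WidePullbackShape.wideCospan V.toScheme (fun i : Fin d => (U (c i)).toScheme)
      r).obj j) := by
      rintro (_ | j)
      · assumption
      · exact hU _
    exact Scheme.isAffine_of_isLimit _ (limit.isLimit _)
  let W := cbox f d V U c
  have hb0 : Set.range (W.ι ≫ WidePullback.base (fun _ : Fin d => f)) ⊆ Set.range V.ι := by
    rintro _ ⟨p, rfl⟩
    rw [Scheme.Opens.range_ι, Scheme.Hom.comp_apply]
    exact (mem_cbox.mp p.2).1
  have hb1 : ∀ i, Set.range (W.ι ≫ WidePullback.π (fun _ : Fin d => f) i) ⊆ Set.range (U (c i)).ι := by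
    rintro i _ ⟨p, rfl⟩
    rw [Scheme.Opens.range_ι, Scheme.Hom.comp_apply]
    exact (mem_cbox.mp p.2).2 i
  let j : widePullback V.toScheme (fun i : Fin d => (U (c i)).toScheme) r ⟶ SymProd.fibPow f d :=
    WidePullback.lift (WidePullback.base _ ≫ V.ι) (fun i => WidePullback.π _ i ≫ (U (c i)).ι) (fun i => by
      rw [Category.assoc, ← Scheme.Hom.resLE_comp_ι f (hle _), ← Category.assoc]
      exact congrArg (· ≫ V.ι) (WidePullback.π_arrow r i))
  have hj : Set.range j ⊆ W := by
    rintro _ ⟨p, rfl⟩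
    rw [SetLike.mem_coe, mem_cbox]
    refine ⟨?_, fun i => ?_⟩
    · rw [← Scheme.Hom.comp_apply, WidePullback.lift_base, Scheme.Hom.comp_apply]
      exact (WidePullback.base r p).2
    · rw [← Scheme.Hom.comp_apply, WidePullback.lift_π, Scheme.Hom.comp_apply]
      exact (WidePullback.π r i p).2
  let a := IsOpenImmersion.lift W.ι j (by rwa [Scheme.Opens.range_ι])
  let b : W.toScheme ⟶ widePullback V.toScheme (fun i : Fin d => (U (c i)).toScheme) r :=
    WidePullback.lift (IsOpenImmersion.lift V.ι _ hb0) (fun i => IsOpenImmersion.lift (U (c i)).ι _ (hb1 i))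
      (fun i => by
        rw [← cancel_mono V.ι, Category.assoc, Scheme.Hom.resLE_comp_ι, IsOpenImmersion.lift_fac_assoc,
          IsOpenImmersion.lift_fac, Category.assoc, WidePullback.π_arrow])
  have ha : a ≫ W.ι = j := IsOpenImmersion.lift_fac _ _ _
  have hab : a ≫ b = 𝟙 _ := by
    apply WidePullback.hom_ext
    · intro i
      rw [Category.assoc, WidePullback.lift_π, ← cancel_mono (U (c i)).ι, Category.assoc,
        IsOpenImmersion.lift_fac, Category.id_comp, ← Category.assoc, ha, WidePullback.lift_π]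
    · rw [Category.assoc, WidePullback.lift_base, ← cancel_mono V.ι, Category.assoc,
        IsOpenImmersion.lift_fac, Category.id_comp, ← Category.assoc, ha, WidePullback.lift_base]
  have hba : b ≫ a = 𝟙 _ := by
    rw [← cancel_mono W.ι, Category.assoc, ha, Category.id_comp]
    apply WidePullback.hom_ext
    · intro i
      rw [Category.assoc, WidePullback.lift_π, WidePullback.lift_π_assoc, IsOpenImmersion.lift_fac]
    · rw [Category.assoc, WidePullback.lift_base, WidePullback.lift_base_assoc,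
        IsOpenImmersion.lift_fac]
  have : IsIso b := ⟨a, hba, hab⟩
  exact IsAffine.of_isIso b

variable (hle : ∀ a, U a ≤ f ⁻¹ᵁ V)

/-- `∏_a Γ(U_a)` as an algebra over `Γ(V)`. -/
@[reducible] noncomputable def piAlgebra : Algebra Γ(S, V) (∀ a, Γ(X, U a)) :=
  (RingHom.pi fun a => (f.appLE V (U a) (hle a)).hom).toAlgebra

variable (c)

/-- The map from the tensor power of `∏_a Γ(U_a)` to the chart. -/
noncomputable def boxHom :
    letI := piAlgebra hle
    (⨂[Γ(S, V)] _ : Fin d, (∀ a, Γ(X, U a))) →+* Γ(SymProd.fibPow f d, cbox f d V U c) :=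
  letI := piAlgebra hle
  letI := ((WidePullback.base (fun _ : Fin d => f)).appLE V (cbox f d V U c) (cbox_le_base f d V U c)).hom.toAlgebra
  let φ : Fin d → ((∀ a, Γ(X, U a)) →ₐ[Γ(S, V)] Γ(SymProd.fibPow f d, cbox f d V U c)) := fun i =>
    { toRingHom := ((WidePullback.π (fun _ : Fin d => f) i).appLE (U (c i)) (cbox f d V U c)
        (cbox_le_π f d V U c i)).hom.comp (Pi.evalRingHom _ (c i))
      commutes' := fun r => by
        show ((WidePullback.π (fun _ : Fin d => f) i).appLE (U (c i)) _ (cbox_le_π f d V U c i)).hom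
          ((f.appLE V (U (c i)) (hle _)).hom r) = ((WidePullback.base (fun _ : Fin d => f)).appLE V _ _).hom r
        rw [SymP31.appLE_trans, SymP31.appLE_congr_hom (WidePullback.π_arrow (fun _ : Fin d => f) i)] }
  let μ : MultilinearMap Γ(S, V) (fun _ : Fin d => ∀ a, Γ(X, U a)) Γ(SymProd.fibPow f d, cbox f d V U c) :=
    (MultilinearMap.mkPiAlgebra Γ(S, V) (Fin d) _).compLinearMap fun i => (φ i).toLinearMap
  (PiTensorProduct.liftAlgHom μ (by simp [μ]) (fun x y => by simp [μ, Finset.prod_mul_distrib])).toRingHom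

theorem boxHom_tprod (g : Fin d → ∀ a, Γ(X, U a)) :
    letI := piAlgebra hle
    boxHom c hle (PiTensorProduct.tprod Γ(S, V) g) = ∏ i, ((WidePullback.π (fun _ : Fin d => f) i).appLE
      (U (c i)) (cbox f d V U c) (cbox_le_π f d V U c i)).hom (g i (c i)) :=
  letI := piAlgebra hle
  letI := ((WidePullback.base (fun _ : Fin d => f)).appLE V (cbox f d V U c) (cbox_le_base f d V U c)).hom.toAlgebra
  PiTensorProduct.lift.tprod g

theorem boxHom_sgl (i : Fin d) (b : ∀ a, Γ(X, U a)) :
    letI := piAlgebra hle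
    boxHom c hle (SymP31.sgl Γ(S, V) (∀ a, Γ(X, U a)) d i b) = ((WidePullback.π (fun _ : Fin d => f) i).appLE
      (U (c i)) (cbox f d V U c) (cbox_le_π f d V U c i)).hom (b (c i)) := by
  letI := piAlgebra hle
  rw [SymP31.singleAlgHom_apply', boxHom_tprod, Finset.prod_eq_single i
    (fun j _ h => by simp [h]) (fun h => absurd (Finset.mem_univ i) h)]
  simp

theorem boxHom_algebraMap (r : Γ(S, V)) :
    letI := piAlgebra hle
    boxHom c hle (algebraMap Γ(S, V) _ r) =
      ((WidePullback.base (fun _ : Fin d => f)).appLE V (cbox f d V U c) (cbox_le_base f d V U c)).hom r :=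
  letI := piAlgebra hle
  letI := ((WidePullback.base (fun _ : Fin d => f)).appLE V (cbox f d V U c) (cbox_le_base f d V U c)).hom.toAlgebra
  AlgHom.commutes _ r

/-- The idempotent cutting out the chart. -/
noncomputable def boxIdem :
    letI := piAlgebra hle
    ⨂[Γ(S, V)] _ : Fin d, (∀ a, Γ(X, U a)) :=
  letI := piAlgebra hle
  PiTensorProduct.tprod Γ(S, V) fun i => Pi.single (c i) 1

theorem boxHom_idem : boxHom c hle (boxIdem c hle) = 1 := by
  rw [boxIdem, boxHom_tprod]
  exact Finset.prod_eq_one fun i _ => by simp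

theorem idem_mul_self : boxIdem c hle * boxIdem c hle = boxIdem c hle := by
  letI := piAlgebra hle
  rw [boxIdem, PiTensorProduct.tprod_mul_tprod]
  congr 1
  funext i
  rw [Pi.mul_apply, ← Pi.single_mul, one_mul]

theorem perm_idem (σ : Equiv.Perm (Fin d)) (hσ : σ ∈ young c) :
    letI := piAlgebra hle
    SymTen.perm Γ(S, V) _ d σ (boxIdem c hle) = boxIdem c hle := by
  letI := piAlgebra hle
  rw [boxIdem, SymTen.perm_tprod]
  congr 1
  funext i
  rw [young_symm hσ i]

theorem idem_mul_perm (σ : Equiv.Perm (Fin d)) (hσ : σ ∉ young c) :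
    letI := piAlgebra hle
    boxIdem c hle * SymTen.perm Γ(S, V) _ d σ (boxIdem c hle) = 0 := by
  letI := piAlgebra hle
  obtain ⟨j, hj⟩ := not_forall.mp hσ
  rw [boxIdem, SymTen.perm_tprod, PiTensorProduct.tprod_mul_tprod]
  refine MultilinearMap.map_coord_zero _ (σ j) ?_
  funext a
  simp only [Pi.mul_apply, Equiv.symm_apply_apply]
  by_cases ha : a = c (σ j)
  · subst ha; rw [Equiv.symm_apply_apply, Pi.single_eq_of_ne hj, mul_zero]; rfl
  · rw [Pi.single_eq_of_ne ha, zero_mul]; rfl

theorem boxHom_perm (σ : Equiv.Perm (Fin d)) (hσ : σ ∈ young c) :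
    letI := piAlgebra hle
    ∀ t, ((SymProd.permHom f d σ).appLE (cbox f d V U c) (cbox f d V U c) (cbox_le_perm f d V U c hσ)).hom
        (boxHom c hle t) = boxHom c hle (SymTen.perm Γ(S, V) _ d σ.symm t) := by
  letI := piAlgebra hle
  intro t
  letI := ((WidePullback.base (fun _ : Fin d => f)).appLE V (cbox f d V U c) (cbox_le_base f d V U c)).hom.toAlgebra
  let W := cbox f d V U c
  let Φ : (⨂[Γ(S, V)] _ : Fin d, (∀ a, Γ(X, U a))) →ₐ[Γ(S, V)] Γ(SymProd.fibPow f d, W) :=
    { toRingHom := boxHom c hle, commutes' := boxHom_algebraMap c hle }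
  let P : Γ(SymProd.fibPow f d, W) →ₐ[Γ(S, V)] Γ(SymProd.fibPow f d, W) :=
    { toRingHom := ((SymProd.permHom f d σ).appLE W W (cbox_le_perm f d V U c hσ)).hom
      commutes' := fun r => by
        show ((SymProd.permHom f d σ).appLE W W _).hom
          (((WidePullback.base (fun _ : Fin d => f)).appLE V W _).hom r) =
          ((WidePullback.base (fun _ : Fin d => f)).appLE V W _).hom r
        rw [SymP31.appLE_trans, SymP31.appLE_congr_hom (SymProd.permHom_base f d σ)] }
  suffices P.comp Φ = Φ.comp (SymTen.perm Γ(S, V) (∀ a, Γ(X, U a)) d σ.symm) from DFunLike.congr_fun this t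
  refine PiTensorProduct.algHom_ext fun i => AlgHom.ext fun b => ?_
  show P (boxHom c hle (SymP31.sgl Γ(S, V) _ d i b)) =
    boxHom c hle (SymTen.perm Γ(S, V) _ d σ.symm (SymP31.sgl Γ(S, V) _ d i b))
  rw [SymP31.perm_single, boxHom_sgl, boxHom_sgl]
  show ((SymProd.permHom f d σ).appLE W W _).hom
    (((WidePullback.π (fun _ : Fin d => f) i).appLE (U (c i)) W _).hom (b (c i))) = _
  rw [SymP31.appLE_trans, SymP31.appLE_congr_hom (SymProd.permHom_π f d σ i)]
  generalize_proofs h1 h2
  revert h1 h2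
  rw [young_symm hσ i]
  intros; rfl

/-- The chart is the localisation of the tensor power at the idempotent. -/
theorem isLocalization_boxHom (hV : IsAffineOpen V) (hU : ∀ a, IsAffineOpen (U a)) :
    letI := piAlgebra hle
    letI := (boxHom c hle).toAlgebra
    IsLocalization.Away (boxIdem c hle) Γ(SymProd.fibPow f d, cbox f d V U c) := by
  letI := piAlgebra hle
  letI : Algebra _ Γ(SymProd.fibPow f d, cbox f d V U c) := (boxHom c hle).toAlgebra
  let W := cbox f d V U c
  have hW : IsAffineOpen W := isAffineOpen_cbox hV hU hle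
  let e := boxIdem c hle
  let T : CommRingCat.{u} := CommRingCat.of (⨂[Γ(S, V)] _ : Fin d, (∀ a, Γ(X, U a)))
  let Te : CommRingCat.{u} := CommRingCat.of (Localization.Away (e : T))
  let loc : T ⟶ Te := CommRingCat.ofHom (algebraMap T (Localization.Away (e : T)))
  have hle1 : loc.hom e = 1 := by
    have h1 : IsUnit (loc.hom e) := IsLocalization.Away.algebraMap_isUnit (e : T)
    refine h1.mul_left_cancel ?_
    rw [← map_mul, mul_one]
    exact congrArg _ (idem_mul_self c hle)
  let ΦR : Te ⟶ Γ(SymProd.fibPow f d, W) := CommRingCat.ofHom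
    (IsLocalization.Away.lift (S := Localization.Away (e : T)) (g := boxHom c hle) (e : T)
      (by rw [boxHom_idem]; exact isUnit_one))
  have hΦ : ∀ t, ΦR.hom (loc.hom t) = boxHom c hle t := fun t => IsLocalization.Away.lift_eq (S := Localization.Away (e : T)) (g := boxHom c hle) (e : T) (by rw [boxHom_idem]; exact isUnit_one) t
  let sR : ∀ i : Fin d, (Γ(X, U (c i)) ⟶ Te) := fun i => CommRingCat.ofHom
    { toFun := fun b => loc.hom (SymP31.sgl Γ(S, V) _ d i (Pi.single (c i) b))
      map_one' := by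
        have h : e * SymP31.sgl Γ(S, V) (∀ a, Γ(X, U a)) d i (Pi.single (c i) 1) = e := by
          show boxIdem c hle * _ = boxIdem c hle
          rw [boxIdem, SymP31.singleAlgHom_apply', PiTensorProduct.tprod_mul_tprod]
          congr 1
          funext j
          rcases eq_or_ne j i with rfl | h
          · simp [← Pi.single_mul]
          · simp [h]
        have := congrArg loc.hom h
        rwa [map_mul, hle1, one_mul] at this
      map_mul' := fun x y => by rw [Pi.single_mul, map_mul, map_mul]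
      map_zero' := by rw [Pi.single_zero, map_zero, map_zero]
      map_add' := fun x y => by rw [Pi.single_add, map_add, map_add] }
  let bR : Γ(S, V) ⟶ Te := CommRingCat.ofHom ((algebraMap T (Localization.Away (e : T))).comp (algebraMap Γ(S, V) T))
  have hsgl : ∀ i b, loc.hom (SymP31.sgl Γ(S, V) _ d i b) = (sR i).hom (b (c i)) := fun i b => by
    have h : e * SymP31.sgl Γ(S, V) (∀ a, Γ(X, U a)) d i b =
        e * SymP31.sgl Γ(S, V) (∀ a, Γ(X, U a)) d i (Pi.single (c i) (b (c i))) := by
      show boxIdem c hle * _ = boxIdem c hle * _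
      rw [boxIdem, SymP31.singleAlgHom_apply', SymP31.singleAlgHom_apply', PiTensorProduct.tprod_mul_tprod,
        PiTensorProduct.tprod_mul_tprod]
      congr 1
      funext j
      rcases eq_or_ne j i with rfl | h
      · funext a
        rcases eq_or_ne a (c j) with rfl | ha
        · simp
        · simp [ha]
      · simp [h]
    have := congrArg loc.hom h
    rwa [map_mul, map_mul, hle1, one_mul, one_mul] at this
  have hsb : ∀ i, f.appLE V (U (c i)) (hle _) ≫ sR i = bR := fun i => by
    ext r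
    show (sR i).hom ((f.appLE V (U (c i)) (hle _)).hom r) = loc.hom (algebraMap _ T r)
    rw [← (SymP31.sgl Γ(S, V) (∀ a, Γ(X, U a)) d i).commutes r, hsgl]
    rfl
  let m : Spec Te ⟶ SymProd.fibPow f d :=
    WidePullback.lift (Spec.map bR ≫ hV.fromSpec) (fun i => Spec.map (sR i) ≫ (hU (c i)).fromSpec) (fun i => by
      rw [Category.assoc, ← hV.SpecMap_appLE_fromSpec f (hU _) (hle _), ← Category.assoc, ← Spec.map_comp, hsb])
  have hsΦ : ∀ i, sR i ≫ ΦR =
      (WidePullback.π (fun _ : Fin d => f) i).appLE (U (c i)) W (cbox_le_π f d V U c i) := fun i => by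
    ext b
    show ΦR.hom (loc.hom _) = _
    rw [hΦ]; refine (boxHom_sgl c hle i _).trans ?_; rw [Pi.single_eq_same]
  have hbΦ : bR ≫ ΦR = (WidePullback.base (fun _ : Fin d => f)).appLE V W (cbox_le_base f d V U c) := by
    ext r
    show ΦR.hom (loc.hom _) = _
    rw [hΦ]
    exact boxHom_algebraMap c hle r
  have hm : Spec.map ΦR ≫ m = hW.fromSpec := by
    apply WidePullback.hom_ext
    · intro i
      rw [Category.assoc, WidePullback.lift_π, ← Category.assoc, ← Spec.map_comp, hsΦ,
        IsAffineOpen.SpecMap_appLE_fromSpec]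
    · rw [Category.assoc, WidePullback.lift_base, ← Category.assoc, ← Spec.map_comp, hbΦ,
        IsAffineOpen.SpecMap_appLE_fromSpec]
  have hrange : Set.range m ⊆ Set.range hW.fromSpec := by
    rw [hW.range_fromSpec]
    rintro _ ⟨p, rfl⟩
    rw [SetLike.mem_coe, mem_cbox]
    refine ⟨?_, fun i => ?_⟩
    · rw [← Scheme.Hom.comp_apply, WidePullback.lift_base, Scheme.Hom.comp_apply, ← SetLike.mem_coe,
        ← hV.range_fromSpec]
      exact Set.mem_range_self _
    · rw [← Scheme.Hom.comp_apply, WidePullback.lift_π, Scheme.Hom.comp_apply, ← SetLike.mem_coe,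
        ← (hU (c i)).range_fromSpec]
      exact Set.mem_range_self _
  let n := IsOpenImmersion.lift hW.fromSpec m hrange
  have hn : n ≫ hW.fromSpec = m := IsOpenImmersion.lift_fac _ _ _
  obtain ⟨ψ, hψ⟩ := Spec.map_surjective n
  have h1 : Spec.map ΦR ≫ n = 𝟙 _ := by
    rw [← cancel_mono hW.fromSpec, Category.assoc, hn, hm, Category.id_comp]
  have h1' : ψ ≫ ΦR = 𝟙 _ := Spec.map_injective (by rw [Spec.map_comp, hψ, h1, Spec.map_id])
  have hψs : ∀ i, (WidePullback.π (fun _ : Fin d => f) i).appLE (U (c i)) W (cbox_le_π f d V U c i) ≫ ψ = sR i :=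
    fun i => by
      apply Spec.map_injective
      rw [← cancel_mono (hU (c i)).fromSpec, Spec.map_comp, hψ, Category.assoc,
        IsAffineOpen.SpecMap_appLE_fromSpec (hV := hW), ← Category.assoc, hn, WidePullback.lift_π]
  have hψb : (WidePullback.base (fun _ : Fin d => f)).appLE V W (cbox_le_base f d V U c) ≫ ψ = bR := by
    apply Spec.map_injective
    rw [← cancel_mono hV.fromSpec, Spec.map_comp, hψ, Category.assoc, IsAffineOpen.SpecMap_appLE_fromSpec (hV := hW),
      ← Category.assoc, hn, WidePullback.lift_base]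
  have hψΦ : ∀ t, ψ.hom (boxHom c hle t) = loc.hom t := by
    let P1 : (⨂[Γ(S, V)] _ : Fin d, (∀ a, Γ(X, U a))) →ₐ[Γ(S, V)] Localization.Away (e : T) :=
      { toRingHom := ψ.hom.comp (boxHom c hle)
        commutes' := fun r => by
          show ψ.hom (boxHom c hle (algebraMap _ _ r)) = _
          rw [boxHom_algebraMap]
          exact (DFunLike.congr_fun (congrArg CommRingCat.Hom.hom hψb) r).trans
            (IsScalarTower.algebraMap_apply _ _ _ r).symm }
    intro t
    suffices P1 = IsScalarTower.toAlgHom Γ(S, V) _ _ from DFunLike.congr_fun this t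
    refine PiTensorProduct.algHom_ext fun i => AlgHom.ext fun b => ?_
    show ψ.hom (boxHom c hle (SymP31.sgl Γ(S, V) _ d i b)) = loc.hom (SymP31.sgl Γ(S, V) _ d i b)
    rw [boxHom_sgl, hsgl]
    exact DFunLike.congr_fun (congrArg CommRingCat.Hom.hom (hψs i)) (b (c i))
  let eqv : Localization.Away (e : T) ≃ₐ[(T : Type u)] Γ(SymProd.fibPow f d, W) :=
    AlgEquiv.ofBijective { toRingHom := ΦR.hom, commutes' := hΦ }
      ⟨Function.LeftInverse.injective (g := ψ.hom) fun x => by
        have : ψ.hom.comp ΦR.hom = RingHom.id _ := IsLocalization.ringHom_ext (Submonoid.powers (e : T))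
          (RingHom.ext fun t => by
            show ψ.hom (ΦR.hom (loc.hom t)) = loc.hom t
            rw [hΦ, hψΦ])
        exact DFunLike.congr_fun this x,
      fun y => ⟨ψ.hom y, DFunLike.congr_fun (congrArg CommRingCat.Hom.hom h1') y⟩⟩
  exact IsLocalization.isLocalization_of_algEquiv (Submonoid.powers (e : T)) eqv

end Groth.Agent.Sym20
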