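import Groth.Agent.PolLaw95.General
import Groth.Prelude.Def_SymTen
import Mathlib

/-!
# Symmetric tensors of a flat quotient of a base change are spanned by symmetric tensors
-/

set_option autoImplicit false
universe u
open scoped TensorProduct

namespace Groth.Agent.Sym20

variable {A A' B B' : Type u} [CommRing A] [CommRing A'] [Algebra A A'] [CommRing B] [Algebra A B]
  [CommRing B'] [Algebra A B'] [Algebra A' B'] [IsScalarTower A A' B'] {d : ℕ}

/-- `⨂_A B → ⨂_{A'} B'` induced by `uh : B → B'`. -/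
noncomputable def powHom (uh : B →ₐ[A] B') (d : ℕ) :
    (⨂[A] _ : Fin d, B) →ₐ[A] (⨂[A'] _ : Fin d, B') :=
  PiTensorProduct.liftAlgHom
    (((PiTensorProduct.tprod A').restrictScalars A).compLinearMap fun _ => uh.toLinearMap)
    (by simp [PiTensorProduct.one_def]; rfl)
    (by intro x y; simp [PiTensorProduct.tprod_mul_tprod]; rfl)

@[simp]
theorem powHom_tprod (uh : B →ₐ[A] B') (g : Fin d → B) :
    powHom (A' := A') uh d (PiTensorProduct.tprod A g) = PiTensorProduct.tprod A' fun i => uh (g i) := by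
  simp [powHom]

theorem powHom_perm (uh : B →ₐ[A] B') (σ : Equiv.Perm (Fin d)) (t : ⨂[A] _ : Fin d, B) :
    powHom (A' := A') uh d (SymTen.perm A B d σ t) = SymTen.perm A' B' d σ (powHom (A' := A') uh d t) := by
  induction t using PiTensorProduct.induction_on with
  | smul_tprod r g =>
    rw [map_smul, map_smul, map_smul, SymTen.perm_tprod, powHom_tprod, powHom_tprod,
      Algebra.smul_def, Algebra.smul_def, map_mul, SymTen.perm_tprod,
      IsScalarTower.algebraMap_apply A A' (⨂[A'] _ : Fin d, B'), AlgHom.commutes]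
  | add x y hx hy => simp [hx, hy]

/-- Symmetric tensors of a flat `A'`-algebra generated over `A'` by the image of `B` are spanned by
images of symmetric tensors of `B`. -/
theorem TS_le_closure [Module.Flat A' B'] (uh : B →ₐ[A] B')
    (hgen : Submodule.span A' (Set.range uh) = ⊤) (z : ⨂[A'] _ : Fin d, B') (hz : z ∈ SymTen.TS A' B' d) :
    z ∈ AddSubgroup.closure {l | ∃ (a : A') (r : ⨂[A] _ : Fin d, B),
      r ∈ SymTen.TS A B d ∧ algebraMap A' _ a * powHom (A' := A') uh d r = l} := by
  classical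
  let π : MvPolynomial B A' →ₐ[A'] B' := MvPolynomial.aeval uh
  have hπ : Function.Surjective π := by
    rw [← AlgHom.range_eq_top, eq_top_iff]
    intro x _
    have hx : x ∈ Submodule.span A' (Set.range uh) := hgen ▸ Submodule.mem_top
    refine (Submodule.span_le (p := Subalgebra.toSubmodule π.range)).mpr ?_ hx
    rintro _ ⟨b, rfl⟩
    exact ⟨MvPolynomial.X b, MvPolynomial.aeval_X _ _⟩
  let e := MvPolynomial.basisMonomials B A'
  let E := Basis.piTensorProduct fun _ : Fin d => e
  obtain ⟨y, hy⟩ := PolLaw95.TSmap_surjective e π hπ ⟨z, hz⟩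
  let c := E.repr (y : ⨂[A'] _ : Fin d, MvPolynomial B A')
  have hperm : ∀ (σ : Equiv.Perm (Fin d)) v,
      PiTensorProduct.reindex A' (fun _ : Fin d => MvPolynomial B A') σ (E v) = E (v ∘ ⇑σ.symm) := fun σ v => by
    simp [E, Basis.piTensorProduct_apply, PiTensorProduct.reindex_tprod]
  have hc : ∀ (σ : Equiv.Perm (Fin d)) v, c (v ∘ ⇑σ) = c v := by
    intro σ v
    have h : ∀ w : ⨂[A'] _ : Fin d, MvPolynomial B A',
        E.repr (PiTensorProduct.reindex A' (fun _ : Fin d => MvPolynomial B A') σ w) v = E.repr w (v ∘ ⇑σ) := by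
      intro w
      have : (Finsupp.lapply v).comp (E.repr.toLinearMap.comp
          (PiTensorProduct.reindex A' (fun _ : Fin d => MvPolynomial B A') σ).toLinearMap) =
          (Finsupp.lapply (v ∘ ⇑σ)).comp E.repr.toLinearMap := by
        refine E.ext fun w' => ?_
        simp only [LinearMap.comp_apply, LinearEquiv.coe_coe, hperm, Module.Basis.repr_self,
          Finsupp.lapply_apply, Finsupp.single_apply]
        congr 1
        refine propext ⟨fun h => ?_, fun h => ?_⟩ <;> subst h <;> funext i <;> simp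
      exact LinearMap.congr_fun this w
    rw [← h, y.2 σ]
  let st : Setoid (Fin d → (B →₀ ℕ)) :=
    { r := fun v w => ∃ σ : Equiv.Perm (Fin d), v ∘ ⇑σ = w
      iseqv := ⟨fun v => ⟨1, rfl⟩, fun {v w} ⟨σ, h⟩ => ⟨σ.symm, by subst h; ext i; simp⟩,
        fun {v w z} ⟨σ, h⟩ ⟨τ, h'⟩ => ⟨σ * τ, by subst h; subst h'; rfl⟩⟩ }
  let t : (Fin d → (B →₀ ℕ)) → ⨂[A] _ : Fin d, B := fun v =>
    PiTensorProduct.tprod A fun i => (v i).prod fun b n => b ^ n
  have hπE : ∀ v, PiTensorProduct.map (fun _ : Fin d => π.toLinearMap) (E v) = powHom (A' := A') uh d (t v) := by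
    intro v
    simp only [E, Basis.piTensorProduct_apply, t, powHom_tprod, PiTensorProduct.map_tprod]
    congr 1
    funext i
    simp [π, e, MvPolynomial.aeval_monomial, map_finsuppProd, map_pow]
  have hzsum : z = ∑ v ∈ c.support, algebraMap A' _ (c v) * powHom (A' := A') uh d (t v) := by
    show (⟨z, hz⟩ : SymTen.TS A' B' d).1 = _
    rw [← hy]
    conv_lhs => rw [← E.linearCombination_repr (y : ⨂[A'] _ : Fin d, MvPolynomial B A')]
    rw [Finsupp.linearCombination_apply, Finsupp.sum, map_sum]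
    exact Finset.sum_congr rfl fun v _ => by rw [map_smul, hπE, Algebra.smul_def]
  rw [hzsum, ← Finset.sum_fiberwise_of_maps_to (g := Quotient.mk st) (t := c.support.image (Quotient.mk st))
    fun v hv => Finset.mem_image_of_mem _ hv]
  refine AddSubgroup.sum_mem _ fun o ho => AddSubgroup.subset_closure ?_
  set F := c.support.filter fun v => Quotient.mk st v = o
  have hconst : ∀ v ∈ F, c v = c o.out := fun v hv => by
    obtain ⟨σ, hσ⟩ : ∃ σ : Equiv.Perm (Fin d), v ∘ ⇑σ = o.out :=
      Quotient.exact (s := st) ((Finset.mem_filter.mp hv).2.trans (Quotient.out_eq o).symm)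
    rw [← hσ, hc]
  refine ⟨c o.out, ∑ v ∈ F, t v, fun σ => ?_, ?_⟩
  · rw [map_sum]
    refine Finset.sum_nbij (fun v => v ∘ ⇑σ.symm) (fun v hv => ?_) (fun a _ b _ h => ?_) (fun w hw => ?_) fun v _ => ?_
    · obtain ⟨h1, h2⟩ := Finset.mem_filter.mp hv
      refine Finset.mem_filter.mpr ⟨?_, ?_⟩
      · rw [Finsupp.mem_support_iff, hc, ← Finsupp.mem_support_iff]; exact h1
      · rw [← h2]; exact Quotient.sound (show st.r _ _ from ⟨σ, by funext i; simp⟩)
    · exact funext fun i => by simpa using congrFun h (σ i)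
    · obtain ⟨h1, h2⟩ := Finset.mem_filter.mp (Finset.mem_coe.mp hw)
      refine ⟨w ∘ ⇑σ, Finset.mem_coe.mpr (Finset.mem_filter.mpr ⟨?_, ?_⟩), by funext i; simp⟩
      · rw [Finsupp.mem_support_iff, hc, ← Finsupp.mem_support_iff]; exact h1
      · rw [← h2]; exact Quotient.sound (show st.r _ _ from ⟨σ.symm, by funext i; simp⟩)
    · simp [t, PiTensorProduct.reindex_tprod]
  · rw [map_sum, Finset.mul_sum]
    exact Finset.sum_congr rfl fun v hv => by rw [hconst v hv]

end Groth.Agent.Sym20
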