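import Groth.Agent.Sym20.Sections
import Groth.Agent.Sym20.TensorSpan

/-!
# Invariant sections on a chart are spanned by invariants
-/

set_option autoImplicit false
universe u
open CategoryTheory CategoryTheory.Limits AlgebraicGeometry
open scoped TensorProduct

namespace Groth.Agent.Sym20

section tensor

variable {G : Type*} [Group G] {d : ℕ} (θ : G →* Equiv.Perm (Fin d)) (A B : Type u) [CommRing A] [CommRing B]
  [Algebra A B]

/-- The action on tensor powers. -/
noncomputable def tenAct : Act G (⨂[A] _ : Fin d, B) where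
  a g := (SymTen.perm A B d (θ g)).toRingHom
  one t := by
    show SymTen.perm A B d (θ 1) t = t
    rw [map_one]
    induction t using PiTensorProduct.induction_on with
    | smul_tprod r g => rw [map_smul, SymTen.perm_tprod]; rfl
    | add x y hx hy => rw [map_add, hx, hy]
  mul g h t := by
    show SymTen.perm A B d (θ (g * h)) t = SymTen.perm A B d (θ g) (SymTen.perm A B d (θ h) t)
    rw [map_mul]
    induction t using PiTensorProduct.induction_on with
    | smul_tprod r g => simp only [map_smul, SymTen.perm_tprod]; rfl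
    | add x y hx hy => simp only [map_add, hx, hy]

variable {A B θ} {A' B' : Type u} [CommRing A'] [Algebra A A'] [CommRing B'] [Algebra A B'] [Algebra A' B']
  [IsScalarTower A A' B']

theorem powHom_mem_invSpan (uh : B →ₐ[A] B') (hgen : Submodule.span A' (Set.range uh) = ⊤)
    (htriv : ∀ g, θ g = 1) (t : ⨂[A'] _ : Fin d, B') :
    t ∈ invSpan (tenAct θ A B) (powHom (A' := A') uh d).toRingHom (algebraMap A' _) ⊤ := by
  classical
  have hfix : ∀ r, (tenAct θ A B).Fixed ⊤ r := fun r g _ => by
    show SymTen.perm A B d (θ g) r = r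
    rw [htriv g, ← htriv 1]
    exact (tenAct θ A B).one r
  let M : Submodule A' (⨂[A'] _ : Fin d, B') :=
    { toAddSubmonoid := (invSpan (tenAct θ A B) (powHom (A' := A') uh d).toRingHom (algebraMap A' _) ⊤).toAddSubmonoid
      smul_mem' := fun a x hx => by
        rw [Algebra.smul_def]
        change x ∈ invSpan _ _ _ _ at hx
        change _ ∈ invSpan _ _ _ _
        induction hx using AddSubgroup.closure_induction with
        | mem z hz =>
          obtain ⟨a', r, hr, rfl⟩ := hz
          rw [← mul_assoc, ← map_mul]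
          exact mem_invSpan _ hr
        | zero => rw [mul_zero]; exact zero_mem _
        | add u v _ _ hu hv => rw [mul_add]; exact add_mem hu hv
        | neg u _ hu => rw [mul_neg]; exact neg_mem hu }
  show t ∈ M
  induction t using PiTensorProduct.induction_on with
  | add x y hx hy => exact add_mem hx hy
  | smul_tprod r g =>
    refine M.smul_mem r ?_
    have hg : ∀ i, ∃ (s : Finset B) (a : B → A'), g i = ∑ b ∈ s, a b • uh b := fun i => by
      have : g i ∈ Submodule.span A' (Set.range uh) := hgen ▸ Submodule.mem_top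
      obtain ⟨c, hc⟩ := Finsupp.mem_span_range_iff_exists_finsupp.mp this
      exact ⟨c.support, c, hc.symm⟩
    choose s a hga using hg
    rw [show g = fun i => ∑ b ∈ s i, a i b • uh b from funext hga, MultilinearMap.map_sum_finset]
    refine M.sum_mem fun p _ => ?_
    rw [MultilinearMap.map_smul_univ]
    refine M.smul_mem _ ?_
    show _ ∈ invSpan _ _ _ _
    have := mem_invSpan (ρR := tenAct θ A B) (φ := (powHom (A' := A') uh d).toRingHom)
      (α := algebraMap A' (⨂[A'] _ : Fin d, B')) (1 : A') (hfix (PiTensorProduct.tprod A p))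
    rw [map_one, one_mul] at this
    exact powHom_tprod (A' := A') uh p ▸ this

theorem good_tensor (uh : B →ₐ[A] B') (hgen : Submodule.span A' (Set.range uh) = ⊤)
    (H : (Module.Flat A' B' ∧ Function.Surjective θ) ∨ ∀ g, θ g = 1) :
    Good (tenAct θ A B) (tenAct θ A' B') (powHom (A' := A') uh d).toRingHom (algebraMap A' _) ⊤ := by
  intro l hl
  rcases H with ⟨hflat, hθ⟩ | htriv
  · refine AddSubgroup.closure_mono ?_ (TS_le_closure uh hgen l fun σ => ?_)
    · rintro _ ⟨a, r, hr, rfl⟩
      exact ⟨a, r, fun g _ => (SymTen.perm_apply A B d (θ g) r).trans (hr (θ g)), rfl⟩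
    · obtain ⟨g, rfl⟩ := hθ σ
      exact (SymTen.perm_apply A' B' d (θ g) l).symm.trans (hl g trivial)
  · exact powHom_mem_invSpan uh hgen htriv l

end tensor

variable {X X' S S' : Scheme.{u}} {f : X ⟶ S} {f' : X' ⟶ S'} {b : S' ⟶ S} {h : X' ⟶ X}
  (w : h ≫ f = f' ≫ b) (d : ℕ)

/-- Pull back of sections. -/
noncomputable def pullSec (T : S'.Opens) (W : (SymProd.fibPow f d).Opens) :
    Γ(SymProd.fibPow f d, W) →+* Γ(SymProd.fibPow f' d, subO w d T W) :=
  ((cmap w d).appLE W (subO w d T W) (subO_le_cmap w d T W)).hom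

/-- Sections of the base. -/
noncomputable def baseSec (T : S'.Opens) (W : (SymProd.fibPow f d).Opens) :
    Γ(S', T) →+* Γ(SymProd.fibPow f' d, subO w d T W) :=
  ((WidePullback.base (fun _ : Fin d => f')).appLE T (subO w d T W) (subO_le_base w d T W)).hom

variable {G : Type*} [Group G] {θ : G →* Equiv.Perm (Fin d)}

theorem stab_subO {T : S'.Opens} {W : (SymProd.fibPow f d).Opens} (hW : Stab θ W) :
    Stab θ (subO w d T W) := fun g z hz => by
  refine ⟨?_, ?_⟩
  · show cmap w d (SymProd.permHom f' d (θ g).symm z) ∈ W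
    rw [← Scheme.Hom.comp_apply, cmap_perm, Scheme.Hom.comp_apply]
    exact hW g hz.1
  · show WidePullback.base (fun _ : Fin d => f') (SymProd.permHom f' d (θ g).symm z) ∈ T
    rw [SymP31.base_permHom]
    exact hz.2

theorem pullSec_act {T : S'.Opens} {W : (SymProd.fibPow f d).Opens} (hW : Stab θ W) (g : G)
    (r : Γ(SymProd.fibPow f d, W)) :
    (secAct (stab_subO w d (T := T) hW)).a g (pullSec w d T W r) = pullSec w d T W ((secAct hW).a g r) := by
  show ((SymProd.permHom f' d (θ g).symm).appLE _ _ _).hom (((cmap w d).appLE W _ _).hom r) =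
    ((cmap w d).appLE W _ _).hom (((SymProd.permHom f d (θ g).symm).appLE W W _).hom r)
  rw [SymP31.appLE_trans, SymP31.appLE_trans, SymP31.appLE_congr_hom (cmap_perm w d _)]

theorem baseSec_act {T : S'.Opens} {W : (SymProd.fibPow f d).Opens} (hW : Stab θ W) (g : G)
    (a : Γ(S', T)) :
    (secAct (stab_subO w d (T := T) hW)).a g (baseSec w d T W a) = baseSec w d T W a := by
  show ((SymProd.permHom f' d (θ g).symm).appLE _ _ _).hom
    (((WidePullback.base (fun _ : Fin d => f')).appLE T _ _).hom a) = _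
  rw [SymP31.appLE_trans, SymP31.appLE_congr_hom (SymProd.permHom_base f' d _)]
  rfl

section chart

variable {Λ : Type u} [Fintype Λ] [DecidableEq Λ] {V : S.Opens} {U : Λ → X.Opens} {T : S'.Opens}
  (c : Fin d → Λ)

theorem stab_cbox (hθ : ∀ g, θ g ∈ young c) : Stab θ (cbox f d V U c) :=
  fun g => cbox_le_perm f d V U c ((young c).inv_mem (hθ g))

variable [IsClosedImmersion (pullback.lift h f' w)]

theorem good_chart_aux [Finite G] (hV : IsAffineOpen V) (hU : ∀ a, IsAffineOpen (U a))
    (hle : ∀ a, U a ≤ f ⁻¹ᵁ V) (hT : IsAffineOpen T) (hTV : T ≤ b ⁻¹ᵁ V)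
    (H : (Flat f' ∧ Function.Surjective θ) ∨ ∀ g, θ g = 1)
    (W' : (SymProd.fibPow f' d).Opens) (e : cbox f' d T (fun a => h ⁻¹ᵁ U a ⊓ f' ⁻¹ᵁ T) c = W')
    (e1 : W' ≤ cmap w d ⁻¹ᵁ cbox f d V U c) (e2 : W' ≤ WidePullback.base (fun _ : Fin d => f') ⁻¹ᵁ T)
    (hs : Stab (θ.comp ((young c).comap θ).subtype) W') :
    Good (secAct (stab_cbox (f := f) (V := V) (U := U) (θ := θ.comp ((young c).comap θ).subtype) d c
        fun g => g.2))
      (secAct hs) ((cmap w d).appLE (cbox f d V U c) W' e1).hom
      ((WidePullback.base (fun _ : Fin d => f')).appLE T W' e2).hom ⊤ := by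
  classical
  subst e
  let U' : Λ → X'.Opens := fun a => h ⁻¹ᵁ U a ⊓ f' ⁻¹ᵁ T
  have hle' : ∀ a, U' a ≤ f' ⁻¹ᵁ T := fun a => inf_le_right
  have hU' : ∀ a, IsAffineOpen (U' a) := fun a => isAffineOpen_preimage w hV (hU a) (hle a) hT hTV
  letI := piAlgebra hle
  letI := piAlgebra hle'
  letI : Algebra Γ(S, V) Γ(S', T) := (b.appLE V T hTV).hom.toAlgebra
  letI : Algebra Γ(S, V) (∀ a, Γ(X', U' a)) :=
    ((algebraMap Γ(S', T) (∀ a, Γ(X', U' a))).comp (b.appLE V T hTV).hom).toAlgebra
  have : IsScalarTower Γ(S, V) Γ(S', T) (∀ a, Γ(X', U' a)) := IsScalarTower.of_algebraMap_eq fun _ => rfl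
  let uh : (∀ a, Γ(X, U a)) →ₐ[Γ(S, V)] (∀ a, Γ(X', U' a)) :=
    { toRingHom := RingHom.pi fun a => ((h.appLE (U a) (U' a) inf_le_left).hom.comp (Pi.evalRingHom _ a))
      commutes' := fun r => by
        funext a
        show (h.appLE (U a) (U' a) _).hom ((f.appLE V (U a) (hle a)).hom r) =
          (f'.appLE T (U' a) (hle' a)).hom ((b.appLE V T hTV).hom r)
        rw [SymP31.appLE_trans, SymP31.appLE_trans, SymP31.appLE_congr_hom w] }
  have hgen : Submodule.span Γ(S', T) (Set.range uh) = ⊤ := by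
    refine eq_top_iff.mpr fun x _ => ?_
    rw [← Finset.univ_sum_single x]
    refine Submodule.sum_mem _ fun a _ => ?_
    have hx := preimage_mem_closure w hV (hU a) (hle a) hT hTV (x a)
    generalize x a = y at hx ⊢
    induction hx using AddSubgroup.closure_induction with
    | mem z hz =>
      obtain ⟨t, r, rfl⟩ := hz
      have e : Pi.single a ((f'.appLE T (U' a) (hle' a)).hom t * (h.appLE (U a) (U' a) inf_le_left).hom r) =
          t • uh (Pi.single (M := fun a => Γ(X, U a)) a r : ∀ a, Γ(X, U a)) := by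
        funext a'
        rw [Algebra.smul_def]
        show _ = (f'.appLE T (U' a') (hle' a')).hom t * (h.appLE (U a') (U' a') inf_le_left).hom ((Pi.single (M := fun a => Γ(X, U a)) a r : ∀ a, Γ(X, U a)) a')
        rcases eq_or_ne a' a with rfl | hne
        · simp
        · simp [hne]
      rw [e]
      exact Submodule.smul_mem _ _ (Submodule.subset_span ⟨_, rfl⟩)
    | zero => rw [Pi.single_zero]; exact zero_mem _
    | add u v _ _ hu hv => rw [Pi.single_add]; exact add_mem hu hv
    | neg u _ hu => rw [Pi.single_neg]; exact neg_mem hu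
  have H' : (Module.Flat Γ(S', T) (∀ a, Γ(X', U' a)) ∧ Function.Surjective θ) ∨ ∀ g, θ g = 1 := by
    refine H.imp_left fun ⟨hf, hθ⟩ => ⟨?_, hθ⟩
    letI : ∀ a, Algebra Γ(S', T) Γ(X', U' a) := fun a => (f'.appLE T (U' a) (hle' a)).hom.toAlgebra
    have : ∀ a, Module.Flat Γ(S', T) Γ(X', U' a) := fun a =>
      HasRingHomProperty.appLE @Flat f' hf ⟨T, hT⟩ ⟨U' a, hU' a⟩ (hle' a)
    exact Module.Flat.of_linearEquiv (M := DirectSum Λ fun a => Γ(X', U' a))
      ({ (DirectSum.linearEquivFunOnFintype Γ(S', T) Λ fun a => Γ(X', U' a)).toAddEquiv with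
        map_smul' := fun t z => by
          show DirectSum.linearEquivFunOnFintype Γ(S', T) Λ (fun a => Γ(X', U' a)) (t • z) = _
          rw [map_smul]
          funext a
          exact Algebra.smul_def t _ } :
        (DirectSum Λ fun a => Γ(X', U' a)) ≃ₗ[Γ(S', T)] (∀ a, Γ(X', U' a))).symm
  have hgood := good_tensor (θ := θ) uh hgen H'
  let φT := (powHom (A' := Γ(S', T)) uh d).toRingHom
  have hφT : ∀ g t, (tenAct θ Γ(S', T) (∀ a, Γ(X', U' a))).a g (φT t) =
      φT ((tenAct θ Γ(S, V) (∀ a, Γ(X, U a))).a g t) := fun g t => (powHom_perm uh (θ g) t).symm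
  have hcomp : ∀ t, ((cmap w d).appLE (cbox f d V U c) (cbox f' d T U' c) e1).hom (boxHom c hle t) =
      boxHom c hle' (φT t) := by
    intro t
    show _ = boxHom c hle' (powHom (A' := Γ(S', T)) uh d t)
    induction t using PiTensorProduct.induction_on with
    | add x y hx hy => rw [map_add, map_add, map_add, map_add, hx, hy]
    | smul_tprod r g =>
      have hs : r • PiTensorProduct.tprod Γ(S, V) g =
          algebraMap Γ(S, V) (⨂[Γ(S, V)] _ : Fin d, ∀ a, Γ(X, U a)) r * PiTensorProduct.tprod Γ(S, V) g := by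
        rw [Algebra.algebraMap_eq_smul_one, smul_mul_assoc, one_mul]
      rw [hs, map_mul, map_mul, map_mul, map_mul, boxHom_algebraMap, AlgHom.commutes,
        IsScalarTower.algebraMap_apply Γ(S, V) Γ(S', T), boxHom_algebraMap, powHom_tprod, boxHom_tprod,
        boxHom_tprod, map_prod, SymP31.appLE_trans]
      congr 1
      · show _ = ((WidePullback.base (fun _ : Fin d => f')).appLE T _ _).hom ((b.appLE V T hTV).hom r)
        rw [SymP31.appLE_trans, SymP31.appLE_congr_hom (cmap_base w d)]
      · refine Finset.prod_congr rfl fun i _ => ?_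
        show _ = ((WidePullback.π (fun _ : Fin d => f') i).appLE _ _ _).hom
          ((h.appLE (U (c i)) (U' (c i)) _).hom (g i (c i)))
        rw [SymP31.appLE_trans, SymP31.appLE_trans, SymP31.appLE_congr_hom (cmap_π w d i)]
  have hidem : φT (boxIdem c hle) = boxIdem c hle' := by
    show powHom (A' := Γ(S', T)) uh d _ = _
    rw [boxIdem, powHom_tprod]
    congr 1
    funext i a
    show (h.appLE (U a) (U' a) inf_le_left).hom
      ((Pi.single (M := fun a => Γ(X, U a)) (c i) 1 : ∀ a, Γ(X, U a)) a) = _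
    rcases eq_or_ne a (c i) with rfl | hne
    · simp
    · simp [hne]
  set K := (young c).comap θ
  intro x hx
  letI : Algebra _ Γ(SymProd.fibPow f' d, cbox f' d T U' c) := (boxHom c hle').toAlgebra
  have := isLocalization_boxHom c hle' hT hU'
  have heq : ∀ (g : K) (t : ⨂[Γ(S', T)] _ : Fin d, ∀ a, Γ(X', U' a)),
      (secAct hs).a g (boxHom c hle' t) =
        boxHom c hle' ((tenAct (θ.comp K.subtype) Γ(S', T) (∀ a, Γ(X', U' a))).a g t) := fun g t =>
    (boxHom_perm c hle' (θ g).symm ((young c).inv_mem g.2) t).trans (by rw [Equiv.symm_symm]; rfl)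
  obtain ⟨n, l, hl, hlx⟩ := exists_fixed_rep (ρR := tenAct (θ.comp K.subtype) Γ(S', T) (∀ a, Γ(X', U' a)))
    (ρR' := secAct hs) (boxIdem c hle') (fun g _ => perm_idem c hle' (θ g) g.2) heq hx
  have hlx' : boxHom c hle' l = x := by
    have h1 : algebraMap (⨂[Γ(S', T)] _ : Fin d, ∀ a, Γ(X', U' a)) Γ(SymProd.fibPow f' d, cbox f' d T U' c)
        (boxIdem c hle' ^ n) = 1 := by
      rw [map_pow]
      show boxHom c hle' (boxIdem c hle') ^ n = 1
      rw [boxHom_idem, one_pow]
    rw [h1, one_mul] at hlx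
    exact hlx
  have hm := exists_mul_mem_invSpan_of_idem hφT hgood (K := K) (e := boxIdem c hle)
    (fun g hg => perm_idem c hle (θ g) hg) (idem_mul_self c hle) (fun g hg => idem_mul_perm c hle (θ g) hg)
    (l := l) (fun g hg => hl ⟨g, hg⟩ trivial)
  rw [hidem] at hm
  rw [show x = boxHom c hle' (boxIdem c hle' * l) by rw [map_mul, boxHom_idem, one_mul, hlx']]
  revert hm
  generalize boxIdem c hle' * l = z
  intro hm
  induction hm using AddSubgroup.closure_induction with
  | mem z hz =>
    obtain ⟨t, r, hr, rfl⟩ := hz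
    rw [map_mul, boxHom_algebraMap, ← hcomp]
    refine mem_invSpan t ?_
    rintro ⟨g, hg⟩ -
    refine (boxHom_perm c hle (θ g).symm ((young c).inv_mem hg) r).trans ?_
    rw [Equiv.symm_symm]
    exact congrArg _ (hr g hg)
  | zero => rw [map_zero]; exact zero_mem _
  | add u v _ _ hu hv => rw [map_add]; exact add_mem hu hv
  | neg u _ hu => rw [map_neg]; exact neg_mem hu

/-- On a chart every invariant is spanned by invariants. -/
theorem good_chart [Finite G] (hV : IsAffineOpen V) (hU : ∀ a, IsAffineOpen (U a))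
    (hle : ∀ a, U a ≤ f ⁻¹ᵁ V) (hT : IsAffineOpen T) (hTV : T ≤ b ⁻¹ᵁ V)
    (H : (Flat f' ∧ Function.Surjective θ) ∨ ∀ g, θ g = 1) :
    Good (secAct (stab_cbox (f := f) (V := V) (U := U) (θ := θ.comp ((young c).comap θ).subtype) d c
        fun g => g.2))
      (secAct (stab_subO w d (T := T) (stab_cbox (f := f) (V := V) (U := U)
        (θ := θ.comp ((young c).comap θ).subtype) d c fun g => g.2)))
      (pullSec w d T (cbox f d V U c)) (baseSec w d T (cbox f d V U c)) ⊤ :=
  good_chart_aux w d c hV hU hle hT hTV H _ (subO_cbox w d c hTV).symm _ _ _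

end chart

end Groth.Agent.Sym20
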