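import Groth.Agent.Sym20.Chart

/-!
# Invariant sections of fibre powers are spanned by invariants
-/

set_option autoImplicit false
universe u
open CategoryTheory CategoryTheory.Limits AlgebraicGeometry

namespace Groth.Agent.Sym20

variable {X X' S S' : Scheme.{u}} {f : X ⟶ S} {f' : X' ⟶ S'} {b : S' ⟶ S} {h : X' ⟶ X}
  (w : h ≫ f = f' ≫ b) (d : ℕ) {G : Type*} [Group G] {θ : G →* Equiv.Perm (Fin d)}

theorem pullSec_res {T : S'.Opens} {W D : (SymProd.fibPow f d).Opens} (hDW : D ≤ W)
    (r : Γ(SymProd.fibPow f d, W)) :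
    pullSec w d T D (((SymProd.fibPow f d).presheaf.map (homOfLE hDW).op).hom r) =
      ((SymProd.fibPow f' d).presheaf.map (homOfLE (subO_mono (w := w) (T := T) hDW)).op).hom
        (pullSec w d T W r) := by
  show ((cmap w d).appLE D _ _).hom _ = _
  rw [← CommRingCat.comp_apply, Scheme.Hom.map_appLE]
  show _ = ((SymProd.fibPow f' d).presheaf.map _).hom (((cmap w d).appLE W _ _).hom r)
  rw [← CommRingCat.comp_apply, Scheme.Hom.appLE_map]

theorem baseSec_res {T : S'.Opens} {W D : (SymProd.fibPow f d).Opens} (hDW : D ≤ W) :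
    baseSec w d T D =
      ((SymProd.fibPow f' d).presheaf.map (homOfLE (subO_mono (w := w) (T := T) hDW)).op).hom.comp
        (baseSec w d T W) := by
  refine RingHom.ext fun a => ?_
  show _ = ((SymProd.fibPow f' d).presheaf.map _).hom
    (((WidePullback.base (fun _ : Fin d => f')).appLE T _ _).hom a)
  rw [← CommRingCat.comp_apply, Scheme.Hom.appLE_map]
  rfl

theorem basicOpen_pullSec {T : S'.Opens} {W : (SymProd.fibPow f d).Opens} (s : Γ(SymProd.fibPow f d, W)) :
    (SymProd.fibPow f' d).basicOpen (pullSec w d T W s) = subO w d T ((SymProd.fibPow f d).basicOpen s) := by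
  refine (Scheme.basicOpen_appLE _ _ _ _ s).trans ?_
  ext z
  constructor
  · rintro ⟨h1, h2⟩; exact ⟨h2, h1.2⟩
  · rintro ⟨h1, h2⟩; exact ⟨⟨(SymProd.fibPow f d).basicOpen_le s h1, h2⟩, h1⟩

variable [IsClosedImmersion (pullback.lift h f' w)]

include w in
/-- Every invariant section over an invariant affine open is spanned by invariant sections. -/
theorem good_sec [Finite G] {V : S.Opens} (hV : IsAffineOpen V) {O : (SymProd.fibPow f d).Opens}
    (hOa : IsAffineOpen O) (hO : Stab θ O) (hOV : O ≤ WidePullback.base (fun _ : Fin d => f) ⁻¹ᵁ V)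
    {T : S'.Opens} (hT : IsAffineOpen T) (hTV : T ≤ b ⁻¹ᵁ V)
    (H : (Flat f' ∧ Function.Surjective θ) ∨ ∀ g, θ g = 1) :
    Good (secAct hO) (secAct (stab_subO w d (T := T) hO)) (pullSec w d T O) (baseSec w d T O) ⊤ := by
  classical
  refine good_top_of_local (pullSec_act w d hO) (baseSec_act w d hO) fun p => ?_
  let P := SymProd.fibPow f d
  let z : P := hOa.fromSpec p
  have hzO : z ∈ O := by
    have h1 : z ∈ Set.range hOa.fromSpec := ⟨p, rfl⟩
    rwa [hOa.range_fromSpec] at h1
  let Λ := {x : X // x ∈ Finset.univ.image fun i => WidePullback.π (fun _ : Fin d => f) i z}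
  letI : Fintype Λ := Finset.fintypeCoeSort _
  let c : Fin d → Λ := fun i => ⟨_, Finset.mem_image_of_mem _ (Finset.mem_univ i)⟩
  have hbz : ∀ x : Λ, f x.1 ∈ V := fun x => by
    obtain ⟨i, -, hi⟩ := Finset.mem_image.mp x.2
    rw [← hi, SymP31.base_apply]
    exact hOV hzO
  choose U hU hxU hUV using fun x : Λ => exists_isAffineOpen_mem_and_subset (x := x.1) (U := f ⁻¹ᵁ V) (hbz x)
  let K := (young c).comap θ
  refine ⟨K, fun g hg i => ?_, fun l hl => ?_⟩
  · have hfix : SymProd.permHom f d (θ g).symm z = z := by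
      have h1 := hOa.SpecMap_appLE_fromSpec (SymProd.permHom f d (θ g).symm) hOa (hO g)
      have h2 := congrArg (fun m => m p) h1
      have h3 : hOa.fromSpec (Spec.map ((SymProd.permHom f d (θ g).symm).appLE O O (hO g)) p) =
          SymProd.permHom f d (θ g).symm z := h2
      rw [← h3]
      exact congrArg _ (PrimeSpectrum.ext hg)
    apply Subtype.ext
    show WidePullback.π (fun _ : Fin d => f) (θ g i) z = WidePullback.π (fun _ : Fin d => f) i z
    conv_rhs => rw [← hfix, SymP31.π_permHom, Equiv.symm_symm]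
  let θK := θ.comp K.subtype
  let W := cbox f d V U c
  have hW : Stab θK W := stab_cbox d c fun g => g.2
  have hWa : IsAffineOpen W := isAffineOpen_cbox hV hU hUV
  have hzW : z ∈ W := mem_cbox.mpr ⟨hOV hzO, fun i => hxU (c i)⟩
  have hOK : Stab θK O := fun g => hO g.1
  obtain ⟨s₀, hs₀, hz₀, hD₀⟩ := exists_fixed_section hWa hW hOK hzW hzO
  obtain ⟨s₂, hs₂, hz₂, hD₂⟩ := exists_fixed_section hOa hOK (stab_basicOpen hW hs₀) hzO hz₀
  -- the second basic open is basic in the chart
  let D₀ := P.basicOpen s₀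
  let D := P.basicOpen s₂
  have hDst : Stab θK D := stab_basicOpen hOK hs₂
  have hD₀st : Stab θK D₀ := stab_basicOpen hW hs₀
  obtain ⟨n, r, hr, hrr⟩ : ∃ (n : ℕ) (r : Γ(P, W)), (secAct hW).Fixed ⊤ r ∧
      (P.presheaf.map (homOfLE (P.basicOpen_le s₀)).op).hom r =
        (P.presheaf.map (homOfLE (P.basicOpen_le s₀)).op).hom (s₀ ^ n) *
          (P.presheaf.map (homOfLE hD₀).op).hom s₂ := by
    letI : Algebra Γ(P, W) Γ(P, D₀) := (P.presheaf.map (homOfLE (P.basicOpen_le s₀)).op).hom.toAlgebra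
    have : IsLocalization.Away s₀ Γ(P, D₀) := hWa.isLocalization_of_eq_basicOpen s₀ _ rfl
    exact exists_fixed_rep (ρR := secAct hW) (ρR' := secAct hD₀st) s₀ hs₀
      (fun g t => secAct_res hW hD₀st _ g t)
      (fun g hg => (secAct_res hOK hD₀st hD₀ g s₂).trans (congrArg _ (hs₂ g hg)))
  have hDeq : D = P.basicOpen (s₀ * r) := by
    have h2 := congrArg P.basicOpen hrr
    rw [Scheme.basicOpen_mul, Scheme.basicOpen_res, Scheme.basicOpen_res, Scheme.basicOpen_res] at h2
    rw [Scheme.basicOpen_mul]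
    refine le_antisymm (fun y hy => ?_) (fun y hy => ?_)
    · have hy0 : y ∈ D₀ := hD₂ hy
      have hpow : ∀ m : ℕ, y ∈ P.basicOpen (s₀ ^ m) := by
        intro m
        induction m with
        | zero => rw [pow_zero, Scheme.basicOpen_of_isUnit _ isUnit_one]; exact P.basicOpen_le s₀ hy0
        | succ m ih => rw [pow_succ, Scheme.basicOpen_mul]; exact ⟨ih, hy0⟩
      refine ⟨hy0, ?_⟩
      have : y ∈ D₀ ⊓ P.basicOpen (s₀ ^ n) ⊓ (D₀ ⊓ P.basicOpen s₂) := ⟨⟨hy0, hpow n⟩, hy0, hy⟩
      rw [← h2] at this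
      exact this.2
    · have : y ∈ D₀ ⊓ P.basicOpen r := hy
      rw [h2] at this
      exact this.2.2
  have hDW : D ≤ W := hDeq ▸ P.basicOpen_le (s₀ * r)
  have hsr : (secAct hW).Fixed ⊤ (s₀ * r) := hs₀.mul hr
  have hgoodD : Good (secAct hDst) (secAct (stab_subO w d (T := T) hDst)) (pullSec w d T D)
      (baseSec w d T D) ⊤ := by
    let L := SymProd.fibPow f' d
    letI : Algebra Γ(P, W) Γ(P, D) := (P.presheaf.map (homOfLE hDW).op).hom.toAlgebra
    letI : Algebra Γ(L, subO w d T W) Γ(L, subO w d T D) :=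
      (L.presheaf.map (homOfLE (subO_mono hDW)).op).hom.toAlgebra
    have : IsLocalization.Away (s₀ * r) Γ(P, D) := hWa.isLocalization_of_eq_basicOpen _ _ hDeq
    have : IsLocalization.Away (pullSec w d T W (s₀ * r)) Γ(L, subO w d T D) :=
      (isAffineOpen_subO w d hV hWa (cbox_le_base f d V U c) hT hTV).isLocalization_of_eq_basicOpen _ _
        (by rw [basicOpen_pullSec, ← hDeq])
    rw [baseSec_res w d hDW]
    exact good_localisation (ρR := secAct hW) (ρL := secAct (stab_subO w d (T := T) hW))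
      (s₀ * r) hsr (pullSec_act w d hW)
      (fun g t => secAct_res hW hDst hDW g t)
      (fun g t => secAct_res (stab_subO w d hW) (stab_subO w d hDst) (subO_mono hDW) g t)
      (pullSec_res w d hDW) (good_chart w d c hV hU hUV hT hTV H)
  let L := SymProd.fibPow f' d
  have hDO : D ≤ O := P.basicOpen_le s₂
  letI : Algebra Γ(P, O) Γ(P, D) := (P.presheaf.map (homOfLE hDO).op).hom.toAlgebra
  letI : Algebra Γ(L, subO w d T O) Γ(L, subO w d T D) :=
    (L.presheaf.map (homOfLE (subO_mono hDO)).op).hom.toAlgebra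
  have : IsLocalization.Away s₂ Γ(P, D) := hOa.isLocalization_of_eq_basicOpen _ _ rfl
  have : IsLocalization.Away (pullSec w d T O s₂) Γ(L, subO w d T D) :=
    (isAffineOpen_subO w d hV hOa hOV hT hTV).isLocalization_of_eq_basicOpen _ _
      (by rw [basicOpen_pullSec])
  have hlD := hgoodD (algebraMap Γ(L, subO w d T O) Γ(L, subO w d T D) l) (fun g _ =>
    (secAct_res (θ := θK) (stab_subO w d hOK) (stab_subO w d hDst) (subO_mono hDO) g l).trans
      (congrArg _ (hl g.1 g.2)))
  rw [baseSec_res w d hDO] at hlD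
  obtain ⟨N, hN⟩ := exists_pow_mul_mem (ρR := secAct hOK) (ρR' := secAct hDst) s₂ hs₂
    (fun g t => secAct_res hOK hDst hDO g t) (pullSec_res w d hDO) hlD
  refine ⟨s₂ ^ N, fun g hg => (hs₂.pow N) ⟨g, hg⟩ trivial, fun hc => ?_, AddSubgroup.closure_mono ?_ hN⟩
  · have h1 := p.isPrime.mem_of_pow_mem N hc
    have h2 : p ∈ hOa.fromSpec ⁻¹ᵁ P.basicOpen s₂ := hz₂
    rw [hOa.fromSpec_preimage_basicOpen] at h2
    exact h2 h1
  · rintro _ ⟨a, t, ht, rfl⟩
    exact ⟨a, t, fun g hg => ht ⟨g, hg⟩ trivial, rfl⟩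

end Groth.Agent.Sym20
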