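import Mathlib

/-!
# Flatness of invariants

If `R` is flat over `A` and taking invariants commutes with reduction modulo every ideal of `A`,
then the invariants of `R` form a flat `A`-module. Also flatness of tensor powers.
-/

set_option autoImplicit false

open scoped TensorProduct

namespace Groth.Agent.Sym20

variable {A R : Type*} [CommRing A] [AddCommGroup R] [Module A R]

theorem flat_ker {N P : Type*} [AddCommGroup N] [Module A N] [AddCommGroup P] [Module A P]
    [Module.Flat A N] [Module.Flat A P] (g : N →ₗ[A] P) (hg : Function.Surjective g) :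
    Module.Flat A (LinearMap.ker g) := by
  rw [Module.Flat.iff_rTensor_injective']
  intro J a b hab
  apply LinearMap.lTensor_injective_of_exact_of_flat g hg _ (LinearMap.ker g).subtype_injective
    (LinearMap.exact_subtype_ker_map g) J
  apply Module.Flat.rTensor_preserves_injective_linearMap (M := N) J.subtype J.subtype_injective
  rw [← LinearMap.comp_apply, ← LinearMap.comp_apply, LinearMap.rTensor_comp_lTensor,
    ← LinearMap.lTensor_comp_rTensor, LinearMap.comp_apply, LinearMap.comp_apply, hab]

/-- `R → (ι → R)`, `r ↦ (σ i r - r)`. -/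
def diffMap {ι : Type*} (σ : ι → R →ₗ[A] R) : R →ₗ[A] (ι → R) := LinearMap.pi fun i => σ i - LinearMap.id

/-- `I ⊗ M → M`. -/
noncomputable def mu (I : Ideal A) (M : Type*) [AddCommGroup M] [Module A M] : I ⊗[A] M →ₗ[A] M :=
  TensorProduct.lift ((LinearMap.lsmul A M).comp I.subtype)

theorem flat_fixed {ι : Type*} [Finite ι] [Module.Flat A R] (σ : ι → R →ₗ[A] R)
    (H : ∀ (I : Ideal A) (r : R), (∀ i, σ i r - r ∈ I • (⊤ : Submodule A R)) →
      ∃ m, (∀ i, σ i m = m) ∧ r - m ∈ I • (⊤ : Submodule A R)) :
    Module.Flat A (LinearMap.ker (diffMap σ)) := by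
  classical
  cases nonempty_fintype ι
  let ψ := diffMap σ
  have : Module.Flat A (ι → R) :=
    Module.Flat.of_linearEquiv (DirectSum.linearEquivFunOnFintype A ι fun _ => R).symm
  have hμ : ∀ (I : Ideal A) (r : R), r ∈ I • (⊤ : Submodule A R) → ∃ z, mu I R z = r := by
    intro I r hr
    refine Submodule.smul_induction_on hr (fun a ha m _ => ⟨⟨a, ha⟩ ⊗ₜ m, rfl⟩) ?_
    rintro _ _ ⟨z, rfl⟩ ⟨z', rfl⟩
    exact ⟨z + z', map_add _ _ _⟩
  have hμ' : ∀ (I : Ideal A) (z : I ⊗[A] (ι → R)) (i : ι), mu I (ι → R) z i ∈ I • (⊤ : Submodule A R) := by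
    intro I z i
    induction z with
    | zero => simp
    | add u v hu hv => rw [map_add, Pi.add_apply]; exact add_mem hu hv
    | tmul a m => exact Submodule.smul_mem_smul a.2 Submodule.mem_top
  let C := (ι → R) ⧸ LinearMap.range ψ
  have : Module.Flat A C := by
    rw [Module.Flat.iff_lift_lsmul_comp_subtype_injective]
    intro I hI
    refine (injective_iff_map_eq_zero _).mpr fun x hx => ?_
    obtain ⟨y, rfl⟩ := LinearMap.lTensor_surjective I (LinearMap.range ψ).mkQ_surjective x
    have hnat : (mu I C).comp ((LinearMap.range ψ).mkQ.lTensor I) =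
        (LinearMap.range ψ).mkQ.comp (mu I (ι → R)) :=
      TensorProduct.ext' fun a m => rfl
    have h1 : (LinearMap.range ψ).mkQ (mu I (ι → R) y) = 0 :=
      (congrArg (fun l => l y) hnat).symm.trans hx
    obtain ⟨r, hr⟩ := (Submodule.Quotient.mk_eq_zero _).mp h1
    obtain ⟨m, hm, hrm⟩ := H I r fun i => by
      have h2 := hμ' I y i
      rwa [← hr] at h2
    obtain ⟨z, hz⟩ := hμ I _ hrm
    have hψ : (mu I (ι → R)).comp (ψ.lTensor I) = ψ.comp (mu I R) :=
      TensorProduct.ext' fun a n => (ψ.map_smul (a : A) n).symm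
    have hy : y = ψ.lTensor I z := by
      apply Module.Flat.iff_lift_lsmul_comp_subtype_injective.mp inferInstance hI
      refine Eq.trans ?_ (congrArg (fun l => l z) hψ).symm
      show mu I (ι → R) y = ψ (mu I R z)
      rw [hz, map_sub, hr]
      have : ψ m = 0 := funext fun i => sub_eq_zero.mpr (hm i)
      rw [this, sub_zero]
    rw [hy, ← LinearMap.comp_apply, ← LinearMap.lTensor_comp, LinearMap.range_mkQ_comp,
      LinearMap.lTensor_zero, LinearMap.zero_apply]
  have : Module.Flat A (LinearMap.ker (LinearMap.range ψ).mkQ) := flat_ker _ (Submodule.mkQ_surjective _)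
  have : Module.Flat A (LinearMap.range ψ) :=
    Module.Flat.of_linearEquiv (LinearEquiv.ofEq _ _ (Submodule.ker_mkQ _).symm)
  have h3 := flat_ker ψ.rangeRestrict ψ.surjective_rangeRestrict
  exact Module.Flat.of_linearEquiv (LinearEquiv.ofEq _ _ ψ.ker_rangeRestrict.symm)

theorem flat_tensorPower {M : Type*} [AddCommGroup M] [Module A M] [Module.Flat A M] :
    ∀ n : ℕ, Module.Flat A (⨂[A] _ : Fin n, M)
  | 0 => Module.Flat.of_linearEquiv (PiTensorProduct.isEmptyEquiv (R := A) (Fin 0))
  | n + 1 => by
    have := flat_tensorPower (M := M) n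
    have : Module.Flat A (⨂[A] _ : Fin 1, M) :=
      Module.Flat.of_linearEquiv (PiTensorProduct.subsingletonEquiv (R := A) (s := fun _ : Fin 1 => M) 0)
    exact Module.Flat.of_linearEquiv (TensorPower.mulEquiv (R := A) (M := M) (n := n) (m := 1)).symm

end Groth.Agent.Sym20
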