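import Mathlib

/-!
# Invariants spanned by invariants: induction, localisation and transfer

`φ : R → L` is an equivariant ring map, `α : A → L` has invariant image and the question is whether
every invariant of `L` is a sum of products `α a * φ r` with `r` invariant ("good").
-/

set_option autoImplicit false
universe u

namespace Groth.Agent.Sym20

variable {G : Type*} [Group G] {A R L : Type*} [CommRing A] [CommRing R] [CommRing L]

/-- An action of a group on a ring by ring endomorphisms. -/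
structure Act (G R : Type*) [Group G] [CommRing R] where
  a : G → R →+* R
  one : ∀ r, a 1 r = r
  mul : ∀ g h r, a (g * h) r = a g (a h r)

namespace Act

variable (ρ : Act G R)

def Fixed (H : Subgroup G) (r : R) : Prop := ∀ g ∈ H, ρ.a g r = r

theorem inv_cancel (g : G) (r : R) : ρ.a g⁻¹ (ρ.a g r) = r := by rw [← ρ.mul, inv_mul_cancel, ρ.one]

variable {ρ}

theorem Fixed.add {H : Subgroup G} {r s : R} (hr : ρ.Fixed H r) (hs : ρ.Fixed H s) : ρ.Fixed H (r + s) :=
  fun g hg => by rw [map_add, hr g hg, hs g hg]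

theorem Fixed.mul {H : Subgroup G} {r s : R} (hr : ρ.Fixed H r) (hs : ρ.Fixed H s) : ρ.Fixed H (r * s) :=
  fun g hg => by rw [map_mul, hr g hg, hs g hg]

theorem Fixed.pow {H : Subgroup G} {r : R} (hr : ρ.Fixed H r) (n : ℕ) : ρ.Fixed H (r ^ n) :=
  fun g hg => by rw [map_pow, hr g hg]

theorem Fixed.one {H : Subgroup G} : ρ.Fixed H 1 := fun _ _ => map_one _

theorem Fixed.mono {H K : Subgroup G} {r : R} (hr : ρ.Fixed K r) (h : H ≤ K) : ρ.Fixed H r :=
  fun g hg => hr g (h hg)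

theorem prod_fixed [Finite G] (H : Subgroup G) [Fintype H] (r : R) : ρ.Fixed H (∏ k : H, ρ.a k r) := by
  intro g hg
  rw [map_prod]
  refine (Finset.prod_congr rfl fun k _ => ?_).trans
    (Equiv.prod_comp (Equiv.mulLeft (⟨g, hg⟩ : H)) fun k : H => ρ.a k r)
  rw [← ρ.mul]; rfl

variable (ρ)

/-- The relative trace from `K` to `G`. -/
noncomputable def tr [Finite G] (K : Subgroup G) (r : R) : R :=
  letI := Fintype.ofFinite (G ⧸ K)
  ∑ q : G ⧸ K, ρ.a q.out r

variable {ρ}

theorem act_out_mul [Finite G] {K : Subgroup G} {r : R} (hr : ρ.Fixed K r) (g : G) (q : G ⧸ K) :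
    ρ.a g (ρ.a q.out r) = ρ.a (g • q).out r := by
  obtain ⟨k, hk⟩ := QuotientGroup.mk_out_eq_mul K (g * q.out)
  have hq : g • q = QuotientGroup.mk (g * q.out) := by
    conv_lhs => rw [← QuotientGroup.out_eq' q]
    rfl
  rw [hq, hk, ρ.mul, ρ.mul, hr k.1 k.2]

theorem tr_fixed [Finite G] {K : Subgroup G} {r : R} (hr : ρ.Fixed K r) : ρ.Fixed ⊤ (ρ.tr K r) := by
  letI := Fintype.ofFinite (G ⧸ K)
  intro g _
  rw [tr, map_sum]
  refine (Finset.sum_congr rfl fun q _ => act_out_mul hr g q).trans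
    (Equiv.sum_comp (MulAction.toPerm g) fun q : G ⧸ K => ρ.a q.out r)

/-- The trace is linear over invariants. -/
theorem tr_mul [Finite G] {K : Subgroup G} {s : R} (hs : ρ.Fixed ⊤ s) (r : R) :
    ρ.tr K (s * r) = s * ρ.tr K r := by
  letI := Fintype.ofFinite (G ⧸ K)
  rw [tr, tr, Finset.mul_sum]
  exact Finset.sum_congr rfl fun q _ => by rw [map_mul, hs _ trivial]

theorem tr_add [Finite G] (K : Subgroup G) (r s : R) : ρ.tr K (r + s) = ρ.tr K r + ρ.tr K s := by
  letI := Fintype.ofFinite (G ⧸ K)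
  simp only [tr, map_add, Finset.sum_add_distrib]

theorem tr_zero [Finite G] (K : Subgroup G) : ρ.tr K (0 : R) = 0 := by
  letI := Fintype.ofFinite (G ⧸ K)
  simp [tr]

theorem tr_neg [Finite G] (K : Subgroup G) (r : R) : ρ.tr K (-r) = - ρ.tr K r := by
  letI := Fintype.ofFinite (G ⧸ K)
  simp [tr]

/-- `e ⬝ Tr x = x` when `e x = x` and `e` is orthogonal to its conjugates outside `K`. -/
theorem mul_tr [Finite G] {K : Subgroup G} {x e : R} (hx : ρ.Fixed K x) (hex : e * x = x)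
    (hort : ∀ g ∉ K, e * ρ.a g e = 0) : e * ρ.tr K x = x := by
  classical
  letI := Fintype.ofFinite (G ⧸ K)
  rw [tr, Finset.mul_sum, Finset.sum_eq_single (QuotientGroup.mk (1 : G))]
  · obtain ⟨k, hk⟩ := QuotientGroup.mk_out_eq_mul K (1 : G)
    rw [hk, one_mul, hx k.1 k.2, hex]
  · intro q _ hq
    have hqK : q.out ∉ K := fun h => hq (by
      rw [← QuotientGroup.out_eq' q]
      exact QuotientGroup.eq.mpr (by simpa using h))
    rw [← hex, map_mul, ← mul_assoc, hort _ hqK, zero_mul]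
  · simp

end Act

variable (ρR : Act G R) (ρL : Act G L) (φ : R →+* L) (α : A →+* L)

/-- The additive subgroup generated by `α a * φ r`, `r` fixed by `H`. -/
def invSpan (H : Subgroup G) : AddSubgroup L :=
  AddSubgroup.closure {l | ∃ a r, ρR.Fixed H r ∧ α a * φ r = l}

/-- Every `H`-invariant of `L` is in the span of the `H`-invariants of `R`. -/
def Good (H : Subgroup G) : Prop := ∀ l, ρL.Fixed H l → l ∈ invSpan ρR φ α H

variable {ρR ρL φ α}

theorem mem_invSpan {H : Subgroup G} (a : A) {r : R} (hr : ρR.Fixed H r) : α a * φ r ∈ invSpan ρR φ α H :=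
  AddSubgroup.subset_closure ⟨a, r, hr, rfl⟩

theorem mul_mem_invSpan {H : Subgroup G} {s : R} (hs : ρR.Fixed H s) {l : L}
    (hl : l ∈ invSpan ρR φ α H) : φ s * l ∈ invSpan ρR φ α H := by
  induction hl using AddSubgroup.closure_induction with
  | mem x hx =>
    obtain ⟨a, r, hr, rfl⟩ := hx
    rw [show φ s * (α a * φ r) = α a * φ (s * r) by rw [map_mul]; ring]
    exact mem_invSpan a (hs.mul hr)
  | zero => rw [mul_zero]; exact zero_mem _
  | add x y _ _ hx hy => rw [mul_add]; exact add_mem hx hy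
  | neg x _ hx => rw [mul_neg]; exact neg_mem hx

theorem tr_mem_invSpan [Finite G] (hφ : ∀ g r, ρL.a g (φ r) = φ (ρR.a g r))
    (hα : ∀ g a, ρL.a g (α a) = α a) {K : Subgroup G} {l : L} (hl : l ∈ invSpan ρR φ α K) :
    ρL.tr K l ∈ invSpan ρR φ α ⊤ := by
  letI := Fintype.ofFinite (G ⧸ K)
  induction hl using AddSubgroup.closure_induction with
  | mem x hx =>
    obtain ⟨a, r, hr, rfl⟩ := hx
    have : ρL.tr K (α a * φ r) = α a * φ (ρR.tr K r) := by
      rw [Act.tr_mul (fun g _ => hα g a)]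
      simp only [Act.tr, map_sum, hφ]
    rw [this]
    exact mem_invSpan a (Act.tr_fixed hr)
  | zero => rw [Act.tr_zero]; exact zero_mem _
  | add x y _ _ hx hy => rw [Act.tr_add]; exact add_mem hx hy
  | neg x _ hx => rw [Act.tr_neg]; exact neg_mem hx

/-- The invariants. -/
def fixedRing (ρR : Act G R) : Subring R where
  carrier := {r | ρR.Fixed ⊤ r}
  one_mem' := Act.Fixed.one
  mul_mem' := Act.Fixed.mul
  zero_mem' := fun g _ => map_zero _
  add_mem' := Act.Fixed.add
  neg_mem' := fun hr g hg => by rw [map_neg, hr g hg]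

@[reducible] def mulSemiringAction (ρR : Act G R) : MulSemiringAction G R where
  smul g r := ρR.a g r
  one_smul := ρR.one
  mul_smul := ρR.mul
  smul_zero g := map_zero (ρR.a g)
  smul_add g := map_add (ρR.a g)
  smul_one g := map_one (ρR.a g)
  smul_mul g := map_mul (ρR.a g)

theorem isIntegral_fixedRing [Finite G] (ρR : Act G R) :
    Algebra.IsIntegral (fixedRing ρR) R := by
  letI := mulSemiringAction ρR
  have : SMulCommClass G (fixedRing ρR) R := ⟨fun g s r => by
    show ρR.a g ((s : R) * r) = (s : R) * ρR.a g r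
    rw [map_mul, s.2 g trivial]⟩
  have : Algebra.IsInvariant (fixedRing ρR) R G := ⟨fun r hr => ⟨⟨r, fun g _ => hr g⟩, rfl⟩⟩
  exact Algebra.IsInvariant.isIntegral (fixedRing ρR) R G

/-- If `q = p ∘ a g` for a prime `p` then conjugates in a chain are equal. -/
theorem comap_eq_of_le [Finite G] (p : Ideal R) (g : G) (h : p.comap (ρR.a g) ≤ p) :
    p.comap (ρR.a g) = p := by
  refine le_antisymm h fun r hr => ?_
  have hn : ∀ n : ℕ, ∀ r : R, ρR.a (g ^ n) r ∈ p → r ∈ p := by
    intro n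
    induction n with
    | zero => intro r hr; rwa [pow_zero, ρR.one] at hr
    | succ n ih =>
      intro r hr
      rw [pow_succ', ρR.mul] at hr
      exact ih r (h hr)
  obtain ⟨n, hn0, hgn⟩ := (isOfFinOrder_of_finite g).exists_pow_eq_one
  obtain ⟨m, rfl⟩ : ∃ m, n = m + 1 := ⟨n - 1, by omega⟩
  show ρR.a g r ∈ p
  refine hn m _ ?_
  rwa [← ρR.mul, ← pow_succ, hgn, ρR.one]

/-- Transfer: good locally at every prime, for a subgroup containing the decomposition group, implies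
good. -/
theorem good_top_of_local [Finite G] (hφ : ∀ g r, ρL.a g (φ r) = φ (ρR.a g r))
    (hα : ∀ g a, ρL.a g (α a) = α a)
    (h : ∀ p : PrimeSpectrum R, ∃ K : Subgroup G, (∀ g, p.asIdeal.comap (ρR.a g) = p.asIdeal → g ∈ K) ∧
      ∀ l, ρL.Fixed K l → ∃ s, ρR.Fixed K s ∧ s ∉ p.asIdeal ∧ φ s * l ∈ invSpan ρR φ α K) :
    Good ρR ρL φ α ⊤ := by
  classical
  intro l hl
  let J : Ideal (fixedRing ρR) :=
    { carrier := {r | φ (r : R) * l ∈ invSpan ρR φ α ⊤}
      zero_mem' := by simp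
      add_mem' := fun ha hb => by
        simp only [Set.mem_setOf_eq] at ha hb ⊢
        rw [AddMemClass.coe_add, map_add, add_mul]; exact add_mem ha hb
      smul_mem' := fun c x hx => by
        simp only [Set.mem_setOf_eq, smul_eq_mul] at hx ⊢
        rw [MulMemClass.coe_mul, map_mul, mul_assoc]
        exact mul_mem_invSpan c.2 hx }
  suffices hJ : J = ⊤ by
    simpa [J] using (Ideal.eq_top_iff_one J).mp hJ
  by_contra hJ
  obtain ⟨y, hy, hJy⟩ := Ideal.exists_le_maximal J hJ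
  have := isIntegral_fixedRing ρR
  obtain ⟨P, hP, hPy⟩ := Ideal.exists_ideal_over_maximal_of_isIntegral (S := R) y
    ((show RingHom.ker (algebraMap (fixedRing ρR) R) = ⊥ from (RingHom.injective_iff_ker_eq_bot (algebraMap (fixedRing ρR) R)).mp Subtype.val_injective) ▸ bot_le)
  obtain ⟨K, hK, hloc⟩ := h ⟨P, hP.isPrime⟩
  obtain ⟨s, hsK, hsP, hs⟩ := hloc l (hl.mono le_top)
  letI := Fintype.ofFinite G
  letI : Fintype K := Fintype.ofFinite K
  let bad : Finset G := Finset.univ.filter fun g => g ∉ K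
  obtain ⟨t₀, ht₀, ht₀'⟩ : ∃ t₀, (∀ g ∈ bad, ρR.a g t₀ ∈ P) ∧ ∀ k : K, ρR.a k t₀ ∉ P := by
    have hnot : ¬ ((bad.inf fun g => P.comap (ρR.a g) : Ideal R) : Set R) ⊆
        ⋃ k ∈ ((Finset.univ : Finset K) : Set K), (P.comap (ρR.a k) : Set R) := by
      intro hsub
      obtain ⟨k, -, hk⟩ := (Ideal.subset_union_prime 1 1
        (fun k _ _ _ => Ideal.IsPrime.comap _)).mp hsub
      obtain ⟨g, hg, hgk⟩ := (Ideal.IsPrime.inf_le' (Ideal.IsPrime.comap _)).mp hk
      have h1 : P.comap (ρR.a (g * (k : G)⁻¹)) ≤ P := fun r hr => by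
        have h2 := hgk (show ρR.a (k : G)⁻¹ r ∈ P.comap (ρR.a g) by
          rw [Ideal.mem_comap, ← ρR.mul]; exact hr)
        rwa [Ideal.mem_comap, ← ρR.mul, mul_inv_cancel, ρR.one] at h2
      exact (Finset.mem_filter.mp hg).2 ((K.mul_mem_cancel_right (K.inv_mem k.2)).mp
        (hK _ (comap_eq_of_le P _ h1)))
    obtain ⟨t₀, h1, h2⟩ := Set.not_subset.mp hnot
    refine ⟨t₀, fun g hg => ?_, fun k hk => h2 (Set.mem_biUnion (Finset.mem_coe.mpr (Finset.mem_univ k)) hk)⟩
    exact Ideal.mem_comap.mp (Finset.inf_le (f := fun g => P.comap (ρR.a g)) hg h1)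
  let t := ∏ k : K, ρR.a k t₀
  have htK : ρR.Fixed K t := Act.prod_fixed K t₀
  have htP : t ∉ P := by
    intro hc
    obtain ⟨k, -, hk⟩ := (hP.isPrime.prod_mem_iff).mp hc
    exact ht₀' k hk
  have htg : ∀ g ∉ K, ρR.a g t ∈ P := fun g hg => by
    rw [show t = ∏ k : K, ρR.a k t₀ from rfl, map_prod]
    refine hP.isPrime.prod_mem_iff.mpr ⟨1, Finset.mem_univ _, ?_⟩
    rw [OneMemClass.coe_one, ρR.one]
    exact ht₀ g (Finset.mem_filter.mpr ⟨Finset.mem_univ _, hg⟩)
  let T : fixedRing ρR := ⟨ρR.tr K (t * s), Act.tr_fixed (htK.mul hsK)⟩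
  have hTJ : T ∈ J := by
    show φ (ρR.tr K (t * s)) * l ∈ invSpan ρR φ α ⊤
    have e : φ (ρR.tr K (t * s)) * l = ρL.tr K (φ (t * s) * l) := by
      rw [mul_comm _ l, mul_comm _ l, Act.tr_mul hl]
      simp only [Act.tr, map_sum, hφ]
    rw [e]
    refine tr_mem_invSpan hφ hα ?_
    rw [map_mul, mul_assoc]
    exact mul_mem_invSpan htK hs
  have hTP : ρR.tr K (t * s) ∈ P := by
    have h1 : T ∈ P.comap (algebraMap (fixedRing ρR) R) := by rw [hPy]; exact hJy hTJ
    exact h1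
  letI := Fintype.ofFinite (G ⧸ K)
  rw [Act.tr, ← Finset.add_sum_erase _ _ (Finset.mem_univ (QuotientGroup.mk (1 : G)))] at hTP
  obtain ⟨k, hk⟩ := QuotientGroup.mk_out_eq_mul K (1 : G)
  rw [hk, one_mul, (htK.mul hsK) k.1 k.2, P.add_mem_iff_left] at hTP
  · exact (hP.isPrime.mem_or_mem hTP).elim htP hsP
  · refine P.sum_mem fun q hq => ?_
    rw [map_mul]
    refine P.mul_mem_right _ (htg _ fun hqK => (Finset.mem_erase.mp hq).1 ?_)
    rw [← QuotientGroup.out_eq' q]
    exact QuotientGroup.eq.mpr (by simpa using hqK)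

/-- Induction: good for `G` gives good for `K` on the part cut out by an idempotent of `K`. -/
theorem exists_mul_mem_invSpan_of_idem [Finite G] (hφ : ∀ g r, ρL.a g (φ r) = φ (ρR.a g r))
    (hgood : Good ρR ρL φ α ⊤) {K : Subgroup G} {e : R} (he : ρR.Fixed K e) (hee : e * e = e)
    (hort : ∀ g ∉ K, e * ρR.a g e = 0) {l : L} (hl : ρL.Fixed K l) :
    φ e * l ∈ invSpan ρR φ α K := by
  have hφe : ρL.Fixed K (φ e) := fun g hg => by rw [hφ, he g hg]
  have h2 := mul_mem_invSpan (ρR := ρR) (φ := φ) (α := α) (H := K) he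
    ((?_ : ρL.tr K (φ e * l) ∈ invSpan ρR φ α K))
  · rwa [Act.mul_tr (hφe.mul hl) (by rw [← mul_assoc, ← map_mul, hee])
      (fun g hg => by rw [hφ, ← map_mul, hort g hg, map_zero])] at h2
  refine AddSubgroup.closure_mono ?_ (hgood _ (Act.tr_fixed (hφe.mul hl)))
  rintro _ ⟨a, r, hr, rfl⟩
  exact ⟨a, r, hr.mono le_top, rfl⟩

/-- Reynolds: if the order of `G` is invertible, spans are good. -/
theorem good_of_isUnit_card [Finite G] (hφ : ∀ g r, ρL.a g (φ r) = φ (ρR.a g r))
    (hα : ∀ g a, ρL.a g (α a) = α a) {c : A} (hc : (Nat.card G : A) * c = 1)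
    (hsurj : ∀ l, l ∈ invSpan ρR φ α ⊥) : Good ρR ρL φ α ⊤ := by
  letI := Fintype.ofFinite G
  intro l hl
  have h := tr_mem_invSpan hφ hα (hsurj l)
  have e : ρL.tr (⊥ : Subgroup G) l = (Nat.card G : L) * l := by
    letI := Fintype.ofFinite (G ⧸ (⊥ : Subgroup G))
    rw [Act.tr, Finset.sum_congr rfl fun q _ => hl q.out trivial, Finset.sum_const, Finset.card_univ,
      ← Nat.card_eq_fintype_card, Nat.card_congr QuotientGroup.quotientBot.toEquiv, nsmul_eq_mul]
  rw [e] at h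
  have h2 : α c * ((Nat.card G : L) * l) ∈ invSpan ρR φ α ⊤ := by
    revert h
    generalize (Nat.card G : L) * l = z
    intro h
    induction h using AddSubgroup.closure_induction with
    | mem x hx =>
      obtain ⟨a, r, hr, rfl⟩ := hx
      rw [← mul_assoc, ← map_mul]
      exact mem_invSpan _ hr
    | zero => rw [mul_zero]; exact zero_mem _
    | add x y _ _ hx hy => rw [mul_add]; exact add_mem hx hy
    | neg x _ hx => rw [mul_neg]; exact neg_mem hx
  rwa [← mul_assoc, ← map_natCast α, ← map_mul, mul_comm c, hc, map_one, one_mul] at h2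

section Localisation

variable {R' L' : Type*} [CommRing R'] [CommRing L'] {ρR' : Act G R'} {ρL' : Act G L'} {φ' : R' →+* L'}
  {ιR : R →+* R'} {ιL : L →+* L'}

theorem invSpan_map {H : Subgroup G} (hιR : ∀ g r, ρR'.a g (ιR r) = ιR (ρR.a g r))
    (hφ' : ∀ r, φ' (ιR r) = ιL (φ r)) {l : L} (hl : l ∈ invSpan ρR φ α H) :
    ιL l ∈ invSpan ρR' φ' (ιL.comp α) H := by
  induction hl using AddSubgroup.closure_induction with
  | mem x hx =>
    obtain ⟨a, r, hr, rfl⟩ := hx
    rw [map_mul, ← hφ']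
    exact mem_invSpan (α := ιL.comp α) a (fun g hg => by rw [hιR, hr g hg])
  | zero => rw [map_zero]; exact zero_mem _
  | add x y _ _ hx hy => rw [map_add]; exact add_mem hx hy
  | neg x _ hx => rw [map_neg]; exact neg_mem hx

/-- An invariant of a localisation at an invariant is an invariant over a power. -/
theorem exists_fixed_rep [Finite G] {H : Subgroup G} (s : R) (hs : ρR.Fixed H s)
    [Algebra R R'] [IsLocalization.Away s R']
    (hιR : ∀ g r, ρR'.a g (algebraMap R R' r) = algebraMap R R' (ρR.a g r)) {x : R'}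
    (hx : ρR'.Fixed H x) :
    ∃ (n : ℕ) (r : R), ρR.Fixed H r ∧ algebraMap R R' r = algebraMap R R' (s ^ n) * x := by
  letI := Fintype.ofFinite H
  obtain ⟨⟨r, ⟨_, n, rfl⟩⟩, hr⟩ := IsLocalization.surj (Submonoid.powers s) x
  have hk : ∀ k : H, ∃ N, s ^ N * ρR.a k r = s ^ N * r := fun k => by
    have e : algebraMap R R' (ρR.a k r) = algebraMap R R' r := by
      rw [← hιR, ← hr, map_mul, hx k.1 k.2, hιR, (hs.pow n) k.1 k.2]
    obtain ⟨⟨_, N, rfl⟩, hN⟩ := (IsLocalization.eq_iff_exists (Submonoid.powers s) R').mp e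
    exact ⟨N, hN⟩
  choose N hN using hk
  let M := Finset.univ.sup N
  refine ⟨M + n, s ^ M * r, fun g hg => ?_, ?_⟩
  · rw [map_mul, (hs.pow M) g hg]
    obtain ⟨d, hd⟩ : ∃ d, M = N ⟨g, hg⟩ + d := Nat.exists_eq_add_of_le (Finset.le_sup (Finset.mem_univ _))
    rw [hd, pow_add, mul_comm (s ^ N ⟨g, hg⟩), mul_assoc, mul_assoc, hN ⟨g, hg⟩]
  · rw [map_mul, ← hr, pow_add, map_mul]; ring

variable [Algebra R R'] [Algebra L L'] [Finite G]

/-- Good passes to the localisation at an invariant element. -/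
theorem good_localisation {H : Subgroup G} (s : R) (hs : ρR.Fixed H s) [IsLocalization.Away s R']
    [IsLocalization.Away (φ s) L'] (hφ : ∀ g r, ρL.a g (φ r) = φ (ρR.a g r))
    (hιR : ∀ g r, ρR'.a g (algebraMap R R' r) = algebraMap R R' (ρR.a g r))
    (hιL : ∀ g l, ρL'.a g (algebraMap L L' l) = algebraMap L L' (ρL.a g l))
    (hφ' : ∀ r, φ' (algebraMap R R' r) = algebraMap L L' (φ r))
    (hgood : Good ρR ρL φ α H) : Good ρR' ρL' φ' ((algebraMap L L').comp α) H := by
  intro x hx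
  obtain ⟨n, l, hl, hlx⟩ := exists_fixed_rep (ρR := ρL) (φ s) (fun g hg => by rw [hφ, hs g hg]) hιL hx
  have hm := invSpan_map (ρR' := ρR') (φ' := φ') hιR hφ' (hgood l hl)
  rw [hlx, ← map_pow, ← hφ'] at hm
  obtain ⟨v, hv⟩ := (IsLocalization.map_units R' (⟨s ^ n, n, rfl⟩ : Submonoid.powers s))
  have hvf : ρR'.Fixed H ↑v⁻¹ := fun g hg => by
    have h1 : ρR'.a g (v : R') = v := by rw [hv, hιR, (hs.pow n) g hg]
    calc ρR'.a g ↑v⁻¹ = ρR'.a g ↑v⁻¹ * ((v : R') * ↑v⁻¹) := by rw [Units.mul_inv, mul_one]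
      _ = ρR'.a g ↑v⁻¹ * ρR'.a g (v : R') * ↑v⁻¹ := by rw [h1, mul_assoc]
      _ = ↑v⁻¹ := by rw [← map_mul, Units.inv_mul, map_one, one_mul]
  have h3 := mul_mem_invSpan hvf hm
  rwa [show algebraMap R R' (s ^ n) = (v : R') from hv.symm, ← mul_assoc, ← map_mul, Units.inv_mul,
    map_one, one_mul] at h3

/-- Spans descend from a localisation at an invariant, up to a power. -/
theorem exists_pow_mul_mem {H : Subgroup G} (s : R) (hs : ρR.Fixed H s) [IsLocalization.Away s R']
    [IsLocalization.Away (φ s) L']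
    (hιR : ∀ g r, ρR'.a g (algebraMap R R' r) = algebraMap R R' (ρR.a g r))
    (hφ' : ∀ r, φ' (algebraMap R R' r) = algebraMap L L' (φ r)) {l : L}
    (hl : algebraMap L L' l ∈ invSpan ρR' φ' ((algebraMap L L').comp α) H) :
    ∃ n, φ (s ^ n) * l ∈ invSpan ρR φ α H := by
  have key : ∀ z ∈ invSpan ρR' φ' ((algebraMap L L').comp α) H,
      ∃ n, ∃ w ∈ invSpan ρR φ α H, algebraMap L L' w = algebraMap L L' (φ (s ^ n)) * z := by
    intro z hz
    induction hz using AddSubgroup.closure_induction with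
    | mem x hx =>
      obtain ⟨a, r', hr', rfl⟩ := hx
      obtain ⟨n, r, hr, hrr⟩ := exists_fixed_rep (ρR := ρR) s hs hιR hr'
      refine ⟨n, _, mem_invSpan (φ := φ) a hr, ?_⟩
      rw [map_mul, ← hφ', hrr, map_mul, hφ', RingHom.comp_apply]; ring
    | zero => exact ⟨0, 0, zero_mem _, by simp⟩
    | add x y _ _ hx hy =>
      obtain ⟨n, w, hw, hwx⟩ := hx
      obtain ⟨m, w', hw', hwy⟩ := hy
      refine ⟨n + m, φ (s ^ m) * w + φ (s ^ n) * w',
        add_mem (mul_mem_invSpan (hs.pow m) hw) (mul_mem_invSpan (hs.pow n) hw'), ?_⟩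
      rw [map_add, map_mul, map_mul, hwx, hwy, pow_add, map_mul, map_mul]; ring
    | neg x _ hx =>
      obtain ⟨n, w, hw, hwx⟩ := hx
      exact ⟨n, -w, neg_mem hw, by rw [map_neg, hwx, mul_neg]⟩
  obtain ⟨n, w, hw, hwl⟩ := key _ hl
  rw [← map_mul] at hwl
  obtain ⟨⟨_, N, rfl⟩, hN⟩ := (IsLocalization.eq_iff_exists (Submonoid.powers (φ s)) L').mp hwl
  refine ⟨N + n, ?_⟩
  rw [pow_add, map_mul, mul_assoc, map_pow φ s N]
  simp only at hN
  rw [← hN, ← map_pow]
  exact mul_mem_invSpan (hs.pow N) hw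

end Localisation

end Groth.Agent.Sym20
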