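import Groth.Agent.Sym20.Box
import Groth.Agent.Sym20.Span
import Mathlib

/-!
# Charts of `fibPow f' d → fibPow f d ×_S S'`
-/

set_option autoImplicit false
universe u
open CategoryTheory CategoryTheory.Limits AlgebraicGeometry

namespace Groth.Agent.Sym20

theorem pullbackChart_isAffine {P S S' : Scheme.{u}} (p : P ⟶ S) (b : S' ⟶ S) {V : S.Opens} (hV : IsAffineOpen V)
    {O : P.Opens} (hO : IsAffineOpen O) (hOV : O ≤ p ⁻¹ᵁ V) {T : S'.Opens} (hT : IsAffineOpen T)
    (hTV : T ≤ b ⁻¹ᵁ V) : IsAffineOpen (pullback.fst p b ⁻¹ᵁ O ⊓ pullback.snd p b ⁻¹ᵁ T) := by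
  have hY : IsPullback (pullback.fst p b) (pullback.snd p b) p b := IsPullback.of_hasPullback p b
  have hp : IsPullback ((pullback.fst p b).resLE O (pullback.fst p b ⁻¹ᵁ O ⊓ pullback.snd p b ⁻¹ᵁ T) inf_le_left)
      ((pullback.snd p b).resLE T (pullback.fst p b ⁻¹ᵁ O ⊓ pullback.snd p b ⁻¹ᵁ T) inf_le_right)
      (p.resLE V O hOV) (b.resLE V T hTV) := Scheme.Hom.isPullback_resLE hY hTV hOV rfl
  have : IsAffine O.toScheme := hO
  have : IsAffine T.toScheme := hT
  have : IsAffine V.toScheme := hV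
  exact IsAffine.of_isIso hp.isoPullback.hom

theorem pullbackChart_mem_closure {P S S' : Scheme.{u}} (p : P ⟶ S) (b : S' ⟶ S) {V : S.Opens}
    (hV : IsAffineOpen V) {O : P.Opens} (hO : IsAffineOpen O) (hOV : O ≤ p ⁻¹ᵁ V) {T : S'.Opens}
    (hT : IsAffineOpen T) (hTV : T ≤ b ⁻¹ᵁ V)
    (x : Γ(pullback p b, pullback.fst p b ⁻¹ᵁ O ⊓ pullback.snd p b ⁻¹ᵁ T)) :
    x ∈ AddSubgroup.closure {z | ∃ (a : Γ(S', T)) (r : Γ(P, O)),
      ((pullback.snd p b).appLE T (pullback.fst p b ⁻¹ᵁ O ⊓ pullback.snd p b ⁻¹ᵁ T) inf_le_right).hom a *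
      ((pullback.fst p b).appLE O (pullback.fst p b ⁻¹ᵁ O ⊓ pullback.snd p b ⁻¹ᵁ T) inf_le_left).hom r = z} := by
  revert x
  set C := pullback.fst p b ⁻¹ᵁ O ⊓ pullback.snd p b ⁻¹ᵁ T with hC
  intro x
  have hY : IsPullback (pullback.fst p b) (pullback.snd p b) p b := IsPullback.of_hasPullback p b
  have hpY := (isIso_pushoutSection_iff (US := V) (UT := O) (UX := T) (UY := C) hY.flip hOV hTV
    (by rw [hC, inf_comm])).mp (isIso_pushoutSection_of_isAffineOpen hY.flip hOV hTV _ hV hO hT)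
  let := (b.appLE V T hTV).hom.toAlgebra
  let := (p.appLE V O hOV).hom.toAlgebra
  let := ((pullback.snd p b).appLE T C inf_le_right).hom.toAlgebra
  let := ((pullback.fst p b).appLE O C inf_le_left).hom.toAlgebra
  let := (b.appLE V T hTV ≫ (pullback.snd p b).appLE T C inf_le_right).hom.toAlgebra
  have := IsScalarTower.of_algebraMap_eq' (R := Γ(S, V)) (S := Γ(S', T)) (A := Γ(pullback p b, C)) rfl
  have := IsScalarTower.of_algebraMap_eq' (R := Γ(S, V)) (S := Γ(P, O)) (A := Γ(pullback p b, C))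
    congr($(hpY.w).hom)
  have hY' : Algebra.IsPushout Γ(S, V) Γ(S', T) Γ(P, O) Γ(pullback p b, C) :=
    CommRingCat.isPushout_iff_isPushout.mp hpY
  obtain ⟨z, hz⟩ := (Algebra.IsPushout.equiv Γ(S, V) Γ(S', T) Γ(P, O) Γ(pullback p b, C)).surjective x
  rw [← hz]
  clear hz
  induction z with
  | zero => rw [map_zero]; exact zero_mem _
  | add u v hu hv => rw [map_add]; exact add_mem hu hv
  | tmul a r =>
    rw [Algebra.IsPushout.equiv_tmul]
    exact AddSubgroup.subset_closure ⟨a, r, rfl⟩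

theorem surjective_appLE {P Q : Scheme.{u}} (k : P ⟶ Q) {C : Q.Opens} {D : P.Opens} (e : k ⁻¹ᵁ C = D)
    (hs : Function.Surjective (k.app C).hom) : Function.Surjective (k.appLE C D e.ge).hom := by
  subst e
  rwa [Scheme.Hom.appLE_eq_app]

variable {X X' S S' : Scheme.{u}} {f : X ⟶ S} {f' : X' ⟶ S'} {b : S' ⟶ S} {h : X' ⟶ X}

/-- `fibPow f' d → fibPow f d` over `b` induced by `h`. -/
noncomputable def cmap (w : h ≫ f = f' ≫ b) (d : ℕ) : SymProd.fibPow f' d ⟶ SymProd.fibPow f d :=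
  WidePullback.lift (WidePullback.base (fun _ : Fin d => f') ≫ b)
    (fun i => WidePullback.π (fun _ : Fin d => f') i ≫ h) (fun i => by
      rw [Category.assoc, w, ← Category.assoc, WidePullback.π_arrow])

variable (w : h ≫ f = f' ≫ b) (d : ℕ)

@[reassoc]
theorem cmap_π (i : Fin d) :
    cmap w d ≫ WidePullback.π (fun _ : Fin d => f) i = WidePullback.π (fun _ : Fin d => f') i ≫ h :=
  WidePullback.lift_π _ _ _ _ i

@[reassoc]
theorem cmap_base : cmap w d ≫ WidePullback.base (fun _ : Fin d => f) =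
    WidePullback.base (fun _ : Fin d => f') ≫ b :=
  WidePullback.lift_base _ _ _ _

theorem cmap_perm (σ : Equiv.Perm (Fin d)) :
    SymProd.permHom f' d σ ≫ cmap w d = cmap w d ≫ SymProd.permHom f d σ := by
  apply WidePullback.hom_ext
  · intro i
    simp only [Category.assoc, cmap_π, SymProd.permHom_π, SymProd.permHom_π_assoc]
  · simp only [Category.assoc, cmap_base, SymProd.permHom_base, SymProd.permHom_base_assoc]

/-- The open of `fibPow f' d` over `W` and `T`. -/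
noncomputable def subO (T : S'.Opens) (W : (SymProd.fibPow f d).Opens) : (SymProd.fibPow f' d).Opens :=
  cmap w d ⁻¹ᵁ W ⊓ WidePullback.base (fun _ : Fin d => f') ⁻¹ᵁ T

variable {w d}

theorem mem_subO {T : S'.Opens} {W : (SymProd.fibPow f d).Opens} {z : SymProd.fibPow f' d} :
    z ∈ subO w d T W ↔ cmap w d z ∈ W ∧ WidePullback.base (fun _ : Fin d => f') z ∈ T := Iff.rfl

theorem subO_mono {T : S'.Opens} {W₁ W₂ : (SymProd.fibPow f d).Opens} (hW : W₁ ≤ W₂) :
    subO w d T W₁ ≤ subO w d T W₂ := fun _ hz => ⟨hW hz.1, hz.2⟩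

variable (w d)

theorem subO_le_cmap (T : S'.Opens) (W : (SymProd.fibPow f d).Opens) : subO w d T W ≤ cmap w d ⁻¹ᵁ W :=
  inf_le_left

theorem subO_le_base (T : S'.Opens) (W : (SymProd.fibPow f d).Opens) :
    subO w d T W ≤ WidePullback.base (fun _ : Fin d => f') ⁻¹ᵁ T := inf_le_right

theorem subO_cbox {Λ : Type u} [Fintype Λ] [DecidableEq Λ] {V : S.Opens} {U : Λ → X.Opens} (c : Fin d → Λ)
    {T : S'.Opens} (hTV : T ≤ b ⁻¹ᵁ V) :
    subO w d T (cbox f d V U c) = cbox f' d T (fun a => h ⁻¹ᵁ U a ⊓ f' ⁻¹ᵁ T) c := by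
  ext z
  rw [SetLike.mem_coe, SetLike.mem_coe, mem_subO, mem_cbox, mem_cbox]
  have hπ : ∀ i, WidePullback.π (fun _ : Fin d => f) i (cmap w d z) =
      h (WidePullback.π (fun _ : Fin d => f') i z) := fun i => by
    rw [← Scheme.Hom.comp_apply, cmap_π, Scheme.Hom.comp_apply]
  have hbz : WidePullback.base (fun _ : Fin d => f) (cmap w d z) = b (WidePullback.base (fun _ : Fin d => f') z) := by
    rw [← Scheme.Hom.comp_apply, cmap_base, Scheme.Hom.comp_apply]
  constructor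
  · rintro ⟨⟨-, h2⟩, h3⟩
    exact ⟨h3, fun i => ⟨by show h _ ∈ U (c i); rw [← hπ]; exact h2 i,
      by show f' _ ∈ T; rw [SymP31.base_apply]; exact h3⟩⟩
  · rintro ⟨h3, h2⟩
    exact ⟨⟨by rw [hbz]; exact hTV h3, fun i => by rw [hπ]; exact (h2 i).1⟩, h3⟩

variable [IsClosedImmersion (pullback.lift h f' w)]

include w

theorem isAffineOpen_preimage {V : S.Opens} (hV : IsAffineOpen V) {U : X.Opens} (hU : IsAffineOpen U)
    (hle : U ≤ f ⁻¹ᵁ V) {T : S'.Opens} (hT : IsAffineOpen T) (hTV : T ≤ b ⁻¹ᵁ V) :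
    IsAffineOpen (h ⁻¹ᵁ U ⊓ f' ⁻¹ᵁ T) := by
  have h1 := (pullbackChart_isAffine f b hV hU hle hT hTV).preimage (pullback.lift h f' w)
  rw [Scheme.Hom.preimage_inf, ← Scheme.Hom.comp_preimage, ← Scheme.Hom.comp_preimage,
    pullback.lift_fst, pullback.lift_snd] at h1
  exact h1

theorem isAffineHom_lift :
    IsAffineHom (pullback.lift (cmap w d) (WidePullback.base (fun _ : Fin d => f')) (cmap_base w d) :
      SymProd.fibPow f' d ⟶ pullback (WidePullback.base (fun _ : Fin d => f)) b) := by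
  refine isAffineHom_of_forall_exists_isAffineOpen _ fun y => ?_
  let z := pullback.fst (WidePullback.base (fun _ : Fin d => f)) b y
  obtain ⟨V, hV, hzV, -⟩ := exists_isAffineOpen_mem_and_subset
    (x := WidePullback.base (fun _ : Fin d => f) z) (U := ⊤) trivial
  obtain ⟨T, hT, hyT, hTV⟩ := exists_isAffineOpen_mem_and_subset
    (x := pullback.snd (WidePullback.base (fun _ : Fin d => f)) b y) (U := b ⁻¹ᵁ V) (by
      show b _ ∈ V
      rw [← Scheme.Hom.comp_apply, ← pullback.condition, Scheme.Hom.comp_apply]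
      exact hzV)
  choose U hU hzU hUV using fun i : ULift.{u} (Fin d) => exists_isAffineOpen_mem_and_subset
    (x := WidePullback.π (fun _ : Fin d => f) i.down z) (U := f ⁻¹ᵁ V) (by
      show f _ ∈ V
      rw [SymP31.base_apply]; exact hzV)
  let c : Fin d → ULift.{u} (Fin d) := ULift.up
  have hWa := isAffineOpen_cbox (f := f) (d := d) (c := c) hV hU hUV
  refine ⟨pullback.fst (WidePullback.base (fun _ : Fin d => f)) b ⁻¹ᵁ cbox f d V U c ⊓
      pullback.snd (WidePullback.base (fun _ : Fin d => f)) b ⁻¹ᵁ T,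
    ⟨mem_cbox.mpr ⟨hzV, fun i => hzU ⟨i⟩⟩, hyT⟩,
    pullbackChart_isAffine (WidePullback.base (fun _ : Fin d => f)) b hV hWa
      (cbox_le_base f d V U c) hT hTV, ?_⟩
  rw [Scheme.Hom.preimage_inf, ← Scheme.Hom.comp_preimage, ← Scheme.Hom.comp_preimage,
      pullback.lift_fst, pullback.lift_snd, show cmap w d ⁻¹ᵁ cbox f d V U c ⊓
        WidePullback.base (fun _ : Fin d => f') ⁻¹ᵁ T = subO w d T (cbox f d V U c) from rfl, subO_cbox w d c hTV]
  exact isAffineOpen_cbox hT (fun a => isAffineOpen_preimage w hV (hU a) (hUV a) hT hTV) fun a => inf_le_right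

theorem isAffineOpen_subO {V : S.Opens} (hV : IsAffineOpen V) {W : (SymProd.fibPow f d).Opens}
    (hW : IsAffineOpen W) (hWV : W ≤ WidePullback.base (fun _ : Fin d => f) ⁻¹ᵁ V) {T : S'.Opens}
    (hT : IsAffineOpen T) (hTV : T ≤ b ⁻¹ᵁ V) : IsAffineOpen (subO w d T W) := by
  have := isAffineHom_lift w d
  have h1 := (pullbackChart_isAffine _ b hV hW hWV hT hTV).preimage
    (pullback.lift (cmap w d) (WidePullback.base (fun _ : Fin d => f')) (cmap_base w d))
  rw [Scheme.Hom.preimage_inf, ← Scheme.Hom.comp_preimage, ← Scheme.Hom.comp_preimage,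
    pullback.lift_fst, pullback.lift_snd] at h1
  exact h1

/-- Sections of `h⁻¹U ⊓ f'⁻¹T` are generated by those of `U` and `T`. -/
theorem preimage_mem_closure {V : S.Opens} (hV : IsAffineOpen V) {U : X.Opens} (hU : IsAffineOpen U)
    (hle : U ≤ f ⁻¹ᵁ V) {T : S'.Opens} (hT : IsAffineOpen T) (hTV : T ≤ b ⁻¹ᵁ V)
    (x : Γ(X', h ⁻¹ᵁ U ⊓ f' ⁻¹ᵁ T)) :
    x ∈ AddSubgroup.closure {z | ∃ (a : Γ(S', T)) (r : Γ(X, U)),
      (f'.appLE T (h ⁻¹ᵁ U ⊓ f' ⁻¹ᵁ T) inf_le_right).hom a *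
        (h.appLE U (h ⁻¹ᵁ U ⊓ f' ⁻¹ᵁ T) inf_le_left).hom r = z} := by
  let k : X' ⟶ pullback f b := pullback.lift h f' w
  set C := pullback.fst f b ⁻¹ᵁ U ⊓ pullback.snd f b ⁻¹ᵁ T
  have hk : k ⁻¹ᵁ C = h ⁻¹ᵁ U ⊓ f' ⁻¹ᵁ T := by
    rw [Scheme.Hom.preimage_inf, ← Scheme.Hom.comp_preimage, ← Scheme.Hom.comp_preimage,
      pullback.lift_fst, pullback.lift_snd]
  have : IsClosedImmersion k := ‹IsClosedImmersion (pullback.lift h f' w)›
  have hs : Function.Surjective (k.appLE C (h ⁻¹ᵁ U ⊓ f' ⁻¹ᵁ T) hk.ge).hom :=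
    surjective_appLE k hk (k.app_surjective C (pullbackChart_isAffine f b hV hU hle hT hTV))
  obtain ⟨y, rfl⟩ := hs x
  have h1 := pullbackChart_mem_closure f b hV hU hle hT hTV y
  induction h1 using AddSubgroup.closure_induction with
  | mem z hz =>
    obtain ⟨a, r, rfl⟩ := hz
    refine AddSubgroup.subset_closure ⟨a, r, ?_⟩
    rw [map_mul, SymP31.appLE_trans, SymP31.appLE_trans,
      SymP31.appLE_congr_hom (pullback.lift_snd h f' w), SymP31.appLE_congr_hom (pullback.lift_fst h f' w)]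
  | zero => rw [map_zero]; exact zero_mem _
  | add u v _ _ hu hv => rw [map_add]; exact add_mem hu hv
  | neg u _ hu => rw [map_neg]; exact neg_mem hu

end Groth.Agent.Sym20
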