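import Groth.Agent.Quot84.FlatBC
import Groth.Agent.Quot84.Props
import Groth.Agent.Quot84.Transport
import Groth.Agent.SymP31.Tensor

/-!
# Base change and products of quotients by finite groups

Quotients commute with a base change that is flat, or arbitrary when the order of the group is invertible.
-/

set_option autoImplicit false
universe u
open CategoryTheory CategoryTheory.Limits AlgebraicGeometry TopologicalSpace Opposite TensorProduct

namespace Groth.Agent.Sym20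

open Quot84

theorem invariants_of_isUnit {R A B : Type*} [CommRing R] [CommRing A] [CommRing B] [Algebra R A]
    [Algebra R B] {G : Type*} [Group G] [Finite G] (σ : G → A →ₗ[R] A)
    (hinj : Function.Injective (algebraMap R A))
    (hfix : ∀ a, (∀ i, σ i a = a) → a ∈ Set.range (algebraMap R A))
    (hone : ∀ i, σ i 1 = 1) (hmul : ∀ g h a, σ g (σ h a) = σ (h * g) a)
    (hcard : IsUnit ((Nat.card G : ℕ) : B)) :
    Function.Injective (fun b : B => b ⊗ₜ[R] (1 : A)) ∧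
      ∀ c : B ⊗[R] A, (∀ i, (σ i).lTensor B c = c) → ∃ b : B, b ⊗ₜ[R] 1 = c := by
  classical
  letI := Fintype.ofFinite G
  let Sg : A →ₗ[R] A := ∑ g, σ g
  let φ : R →ₗ[R] A := Algebra.linearMap R A
  have hmem : ∀ a, ∃ x : R, φ x = Sg a := fun a => hfix _ fun i => by
    simp only [Sg, LinearMap.sum_apply, map_sum, hmul]
    exact Equiv.sum_comp (Equiv.mulRight i) fun g => σ g a
  choose t ht using hmem
  let τ : A →ₗ[R] R :=
    { toFun := t
      map_add' := fun a b => hinj (by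
        show φ (t (a + b)) = φ (t a + t b)
        rw [map_add, ht, ht, ht, map_add])
      map_smul' := fun r a => hinj (by
        show φ (t (r • a)) = φ (r • t a)
        rw [map_smul, ht, ht, map_smul]) }
  have hτ : φ.comp τ = Sg := LinearMap.ext ht
  obtain ⟨v, hv⟩ := hcard
  have hφ : ∀ b : B, b ⊗ₜ[R] (1 : A) = φ.lTensor B (b ⊗ₜ 1) := fun b => by simp [φ]
  have hτ1 : τ (1 : A) = (Nat.card G : R) := hinj (by
    show φ (t 1) = φ (Nat.card G : R)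
    rw [ht]
    simp [Sg, φ, hone, Nat.card_eq_fintype_card])
  constructor
  · intro b b' h
    have h1 := congrArg (fun z => TensorProduct.rid R B (τ.lTensor B z)) h
    simp only [LinearMap.lTensor_tmul, TensorProduct.rid_tmul, hτ1, Nat.cast_smul_eq_nsmul] at h1
    rw [nsmul_eq_mul, nsmul_eq_mul, ← hv] at h1
    exact v.isUnit.mul_left_cancel h1
  · intro c hc
    let w := TensorProduct.rid R B (τ.lTensor B c)
    have h1 : w ⊗ₜ[R] (1 : A) = (Nat.card G) • c := by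
      rw [hφ, show w ⊗ₜ[R] (1 : R) = τ.lTensor B c from (TensorProduct.rid R B).symm_apply_apply _,
        ← LinearMap.comp_apply, ← LinearMap.lTensor_comp, hτ]
      have : Sg.lTensor B = ∑ g, (σ g).lTensor B :=
        map_sum (LinearMap.lTensorHom (R := R) (N := A) (P := A) B) σ Finset.univ
      rw [this, LinearMap.sum_apply, Finset.sum_congr rfl fun g _ => hc g, Finset.sum_const,
        Finset.card_univ, Nat.card_eq_fintype_card]
    refine ⟨((v⁻¹ : Bˣ) : B) * w, ?_⟩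
    rw [← smul_eq_mul, ← TensorProduct.smul_tmul', h1, ← Nat.cast_smul_eq_nsmul B, smul_smul, ← hv,
      Units.inv_mul, one_smul]

variable {X Y X' Y' : Scheme.{u}} {G : Type u} [Group G] [Finite G] {ρ : G →* Aut X} {p : X ⟶ Y}

theorem baseChange_isQuot (hp : SGA1.IsQuot ρ p) (qY : Y' ⟶ Y) (pX : X' ⟶ X) (p' : X' ⟶ Y')
    (hX : IsPullback pX p' p qY) (ρ' : G →* Aut X')
    (hρ₁ : ∀ g : G, (ρ' g).hom ≫ pX = pX ≫ (ρ g).hom)
    (hρ₂ : ∀ g : G, (ρ' g).hom ≫ p' = p')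
    (H : Flat qY ∨ IsUnit ((Nat.card G : ℕ) : Γ(Y', ⊤))) : SGA1.IsQuot ρ' p' := by
  have := hp.affine
  have haff : IsAffineHom p' := MorphismProperty.of_isPullback (P := @IsAffineHom) hX hp.affine
  let ι := {i : Y.Opens × Y'.Opens // IsAffineOpen i.1 ∧ IsAffineOpen i.2 ∧ i.2 ≤ qY ⁻¹ᵁ i.1}
  suffices key : ∀ i : ι, Function.Injective (p'.app i.1.2).hom ∧
      ∀ s : Γ(X', p' ⁻¹ᵁ i.1.2), (∀ g : G, (pull p' (ρ' g).hom (hρ₂ g) i.1.2).hom s = s) →
        s ∈ Set.range (p'.app i.1.2).hom by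
    refine isQuot_of_affine_cover p' ρ' haff hρ₂ (fun i : ι => i.1.2) (fun i => i.2.2.1) ?_
      (fun i => (key i).1) (fun i => (key i).2)
    intro y
    obtain ⟨U, hU, hyU, -⟩ := exists_isAffineOpen_mem_and_subset (x := qY y) (U := ⊤) trivial
    obtain ⟨V, hV, hyV, hVU⟩ :=
      exists_isAffineOpen_mem_and_subset (x := y) (U := qY ⁻¹ᵁ U) hyU
    exact ⟨⟨(U, V), hU, hV, hVU⟩, hyV⟩
  rintro ⟨⟨U, V⟩, hU, hV, hVU⟩
  dsimp only at hU hV hVU ⊢
  have hW : p' ⁻¹ᵁ V ≤ pX ⁻¹ᵁ (p ⁻¹ᵁ U) := by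
    rw [← Scheme.Hom.comp_preimage, hX.w, Scheme.Hom.comp_preimage]
    exact p'.preimage_mono hVU
  have hpo := (isIso_pushoutSection_iff (US := U) (UT := p ⁻¹ᵁ U) (UX := V) (UY := p' ⁻¹ᵁ V)
    hX.flip le_rfl hVU (inf_eq_left.mpr hW).symm).mp
      (isIso_pushoutSection_of_isAffineOpen hX.flip le_rfl hVU _ hU (hU.preimage p) hV)
  let := (qY.appLE U V hVU).hom.toAlgebra
  let := (p.appLE U (p ⁻¹ᵁ U) le_rfl).hom.toAlgebra
  let := (p'.appLE V (p' ⁻¹ᵁ V) le_rfl).hom.toAlgebra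
  let := (pX.appLE (p ⁻¹ᵁ U) (p' ⁻¹ᵁ V) hW).hom.toAlgebra
  let := ((qY.appLE U V hVU) ≫ (p'.appLE V (p' ⁻¹ᵁ V) le_rfl)).hom.toAlgebra
  have := IsScalarTower.of_algebraMap_eq' (R := Γ(Y, U)) (S := Γ(Y', V))
    (A := Γ(X', p' ⁻¹ᵁ V)) rfl
  have := IsScalarTower.of_algebraMap_eq' (R := Γ(Y, U)) (S := Γ(X, p ⁻¹ᵁ U))
    (A := Γ(X', p' ⁻¹ᵁ V)) congr($(hpo.w).hom)
  have hp' : Algebra.IsPushout Γ(Y, U) Γ(Y', V) Γ(X, p ⁻¹ᵁ U) Γ(X', p' ⁻¹ᵁ V) :=
    CommRingCat.isPushout_iff_isPushout.mp hpo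
  have happ : ∀ t, algebraMap Γ(Y, U) Γ(X, p ⁻¹ᵁ U) t = (p.app U).hom t := fun t => by
    change (p.appLE U (p ⁻¹ᵁ U) le_rfl).hom t = _
    rw [Scheme.Hom.appLE_eq_app]
  have happ' : ∀ t, algebraMap Γ(Y', V) Γ(X', p' ⁻¹ᵁ V) t = (p'.app V).hom t := fun t => by
    change (p'.appLE V (p' ⁻¹ᵁ V) le_rfl).hom t = _
    rw [Scheme.Hom.appLE_eq_app]
  let σ : G → Γ(X, p ⁻¹ᵁ U) →ₗ[Γ(Y, U)] Γ(X, p ⁻¹ᵁ U) := fun g =>
    { toFun := (pull p (ρ g).hom (hp.inv g) U).hom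
      map_add' := map_add _
      map_smul' := fun r a => by
        rw [Algebra.smul_def, map_mul, RingHom.id_apply, Algebra.smul_def, happ, app_pull_apply] }
  have hinj : Function.Injective (algebraMap Γ(Y, U) Γ(X, p ⁻¹ᵁ U)) :=
    fun a b h => hp.injective U (by rw [← happ, ← happ, h])
  have hfix : ∀ a, (∀ g, σ g a = a) → a ∈ Set.range (algebraMap Γ(Y, U) Γ(X, p ⁻¹ᵁ U)) := fun a ha => by
    obtain ⟨t, rfl⟩ := (hp.range_iff U a).mpr ha
    exact ⟨t, happ t⟩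
  have hone : ∀ g, σ g 1 = 1 := fun g => map_one (pull p (ρ g).hom (hp.inv g) U).hom
  have key : Function.Injective (fun b : Γ(Y', V) => b ⊗ₜ[Γ(Y, U)] (1 : Γ(X, p ⁻¹ᵁ U))) ∧
      ∀ c : Γ(Y', V) ⊗[Γ(Y, U)] Γ(X, p ⁻¹ᵁ U), (∀ g, (σ g).lTensor Γ(Y', V) c = c) → ∃ b, b ⊗ₜ[Γ(Y, U)] 1 = c := by
    rcases H with hflat | hcard
    · have : Module.Flat Γ(Y, U) Γ(Y', V) := qY.flat_appLE hU hV hVU
      exact flat_invariants (B := Γ(Y', V)) σ hinj hfix hone
    · refine invariants_of_isUnit σ hinj hfix hone (fun g h a => ?_) ?_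
      · show (pull p (ρ g).hom (hp.inv g) U).hom ((pull p (ρ h).hom (hp.inv h) U).hom a) =
          (pull p (ρ (h * g)).hom (hp.inv (h * g)) U).hom a
        exact (SymP31.appLE_trans _ _ _ _ _).trans (SymP31.appLE_congr_hom (hom_mul ρ h g).symm _ a)
      · have h1 := hcard.map (Y'.presheaf.map (homOfLE (le_top : V ≤ ⊤)).op).hom
        rwa [map_natCast] at h1
  obtain ⟨hi, hr⟩ := key
  let e := hp'.out.equiv
  have he : ∀ (b : Γ(Y', V)) (a : Γ(X, p ⁻¹ᵁ U)),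
      e (b ⊗ₜ a) = (p'.app V).hom b * (pX.appLE (p ⁻¹ᵁ U) (p' ⁻¹ᵁ V) hW).hom a := fun b a => by
    rw [IsBaseChange.equiv_tmul, Algebra.smul_def, happ']
    rfl
  have he1 : ∀ b, (p'.app V).hom b = e (b ⊗ₜ 1) := fun b => by rw [he, map_one, mul_one]
  have heq : ∀ g c, e ((σ g).lTensor Γ(Y', V) c) =
      (pull p' (ρ' g).hom (hρ₂ g) V).hom (e c) := by
    intro g c
    induction c with
    | zero => simp
    | add x y hx hy => simp only [map_add, hx, hy]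
    | tmul b a =>
      rw [LinearMap.lTensor_tmul, he, he, map_mul, app_pull_apply]
      congr 1
      change (((ρ g).hom.appLE (p ⁻¹ᵁ U) (p ⁻¹ᵁ U) _) ≫ pX.appLE _ _ hW).hom a =
        ((pX.appLE _ _ hW) ≫ (ρ' g).hom.appLE _ _ _).hom a
      rw [Scheme.Hom.appLE_comp_appLE, Scheme.Hom.appLE_comp_appLE]
      have key : ∀ (q q' : X' ⟶ X) (_ : q = q') (e₁ : p' ⁻¹ᵁ V ≤ q ⁻¹ᵁ (p ⁻¹ᵁ U))
          (e₂ : p' ⁻¹ᵁ V ≤ q' ⁻¹ᵁ (p ⁻¹ᵁ U)), q.appLE _ _ e₁ = q'.appLE _ _ e₂ := by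
        rintro q _ rfl e₁ e₂; rfl
      rw [key _ _ (hρ₁ g).symm]
  constructor
  · intro b b' h
    rw [he1, he1] at h
    exact hi (e.injective h)
  · intro s hs
    obtain ⟨c, rfl⟩ := e.surjective s
    obtain ⟨b, rfl⟩ := hr c fun g => e.injective ((heq g c).trans (hs g))
    exact ⟨b, he1 b⟩

end Groth.Agent.Sym20
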