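import Groth.Agent.Sym20.SymCompare
import Groth.Agent.Quot84.Residue

/-!
# The comparison of symmetric products has trivial residue field extensions
-/

set_option autoImplicit false
universe u
open CategoryTheory CategoryTheory.Limits AlgebraicGeometry

namespace Groth.Agent.Sym20

/-- The image of residue fields along a morphism. -/
noncomputable def resRange {P Q : Scheme.{u}} (a : P ⟶ Q) (p : P) : Subfield (P.residueField p) :=
  (a.residueFieldMap p).hom.fieldRange

theorem resRange_congr {P Q : Scheme.{u}} {a b : P ⟶ Q} (e : a = b) (p : P) : resRange a p = resRange b p := by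
  subst e; rfl

theorem mem_resRange {P Q : Scheme.{u}} (a : P ⟶ Q) (p : P) (z : Q.residueField (a p)) :
    (a.residueFieldMap p).hom z ∈ resRange a p := ⟨z, rfl⟩

theorem resRange_comp_le {P Q R : Scheme.{u}} (a : P ⟶ Q) (c : Q ⟶ R) (p : P) :
    resRange (a ≫ c) p ≤ resRange a p := by
  rintro _ ⟨z, rfl⟩
  exact ⟨(c.residueFieldMap (a p)).hom z, by
    show _ = ((a ≫ c).residueFieldMap p).hom z
    rw [Scheme.residueFieldMap_comp]; rfl⟩

theorem residueFieldMap_surjective {Q R : Scheme.{u}} (c : Q ⟶ R) [IsPreimmersion c] (x : Q) :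
    Function.Surjective (c.residueFieldMap x).hom := by
  intro z
  obtain ⟨w, rfl⟩ := Scheme.residue_surjective Q x z
  obtain ⟨v, rfl⟩ := c.stalkMap_surjective x w
  refine ⟨(R.residue (c x)).hom v, ?_⟩
  exact DFunLike.congr_fun (congrArg CommRingCat.Hom.hom (Scheme.residue_residueFieldMap c x)) v

theorem resRange_comp_of_preimmersion {P Q R : Scheme.{u}} (a : P ⟶ Q) (c : Q ⟶ R) [IsPreimmersion c] (p : P) :
    resRange (a ≫ c) p = resRange a p := by
  refine le_antisymm (resRange_comp_le a c p) ?_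
  rintro _ ⟨z, rfl⟩
  obtain ⟨w, rfl⟩ := residueFieldMap_surjective c (a p) z
  exact ⟨w, by
    show ((a ≫ c).residueFieldMap p).hom w = _
    rw [Scheme.residueFieldMap_comp]; rfl⟩

theorem eval_appLE {P Q : Scheme.{u}} (a : P ⟶ Q) {V : Q.Opens} {W : P.Opens} (e : W ≤ a ⁻¹ᵁ V) (p : P)
    (hp : p ∈ W) (s : Γ(Q, V)) :
    (P.evaluation W p hp).hom ((a.appLE V W e).hom s) =
      (a.residueFieldMap p).hom ((Q.evaluation V (a p) (e hp)).hom s) := by
  have h1 := Scheme.evaluation_naturality_apply a p (e hp) s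
  refine Eq.trans ?_ h1.symm
  exact Quot84.eval_res e hp ((a.app V).hom s)

theorem eval_appLE_mem {P Q : Scheme.{u}} (a : P ⟶ Q) {V : Q.Opens} {W : P.Opens} (e : W ≤ a ⁻¹ᵁ V) (p : P)
    (hp : p ∈ W) (s : Γ(Q, V)) :
    (P.evaluation W p hp).hom ((a.appLE V W e).hom s) ∈ resRange a p := by
  rw [eval_appLE]; exact mem_resRange _ _ _

theorem isClosedImmersion_lift_baseChange {X X' S S' T : Scheme.{u}} {f : X ⟶ S} {f' : X' ⟶ S'} {b : S' ⟶ S}
    {h : X' ⟶ X} (w : h ≫ f = f' ≫ b) [IsClosedImmersion (pullback.lift h f' w)] (j : T ⟶ S') :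
    IsClosedImmersion (pullback.lift (pullback.fst f' j ≫ h) (pullback.snd f' j)
      (by rw [Category.assoc, w, ← Category.assoc, pullback.condition, Category.assoc]) :
      pullback f' j ⟶ pullback f (j ≫ b)) := by
  set k := pullback.lift h f' w
  set k' : pullback f' j ⟶ pullback f (j ≫ b) := pullback.lift (pullback.fst f' j ≫ h) (pullback.snd f' j)
    (by rw [Category.assoc, w, ← Category.assoc, pullback.condition, Category.assoc])
  let m : pullback f (j ≫ b) ⟶ pullback f b :=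
    pullback.map f (j ≫ b) f b (𝟙 _) j (𝟙 _) (by simp) (by simp)
  have hm1 : m ≫ pullback.fst f b = pullback.fst f (j ≫ b) :=
    (pullback.lift_fst _ _ _).trans (Category.comp_id _)
  have hm2 : m ≫ pullback.snd f b = pullback.snd f (j ≫ b) ≫ j := pullback.lift_snd _ _ _
  have hbot : IsPullback m (pullback.snd f (j ≫ b)) (pullback.snd f b) j := by
    refine IsPullback.of_right ?_ hm2 (IsPullback.of_hasPullback f b)
    rw [hm1]; exact IsPullback.of_hasPullback f (j ≫ b)
  have hsq : IsPullback (pullback.fst f' j) k' k m := by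
    refine IsPullback.of_bot ?_ ?_ hbot
    · rw [show k' ≫ pullback.snd f (j ≫ b) = pullback.snd f' j from pullback.lift_snd _ _ _,
        show k ≫ pullback.snd f b = f' from pullback.lift_snd _ _ _]
      exact IsPullback.of_hasPullback f' j
    · apply pullback.hom_ext
      · rw [Category.assoc, pullback.lift_fst, Category.assoc, hm1, pullback.lift_fst]
      · rw [Category.assoc, pullback.lift_snd, Category.assoc, hm2, ← Category.assoc,
          pullback.lift_snd, pullback.condition]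
  exact MorphismProperty.of_isPullback (P := @IsClosedImmersion) hsq ‹_›

variable {X X' S S' Y Y' : Scheme.{u}} {f : X ⟶ S} {f' : X' ⟶ S'} {b : S' ⟶ S} {h : X' ⟶ X}
  {w : h ≫ f = f' ≫ b} {d : ℕ} {q : SymProd.fibPow f d ⟶ Y} {g : Y ⟶ S} {r : SymProd.fibPow f' d ⟶ Y'}
  (hq : SymProd.IsSymProd f d q g) {n : Y' ⟶ pullback g b} (hn : IsComparison w (q := q) (r := r) n)
  [IsClosedImmersion (pullback.lift h f' w)]

include hq hn in
theorem isIso_residueFieldMap_comparison (y : Y') : IsIso (n.residueFieldMap y) := by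
  classical
  obtain ⟨p, rfl⟩ := Quot84.surjective hn.quot y
  let s' := WidePullback.base (fun _ : Fin d => f') p
  let T₂ := Spec (S'.residueField s')
  let j : T₂ ⟶ S' := S'.fromSpecResidueField s'
  let wj : pullback.fst f' j ≫ f' = pullback.snd f' j ≫ j := pullback.condition
  let c := cmap wj d
  have hP := SymP31.isPullback_fibPow f' d j c (cmap_π wj d) (cmap_base wj d)
  let σ : T₂ := default
  have hσ : j σ = s' := Scheme.fromSpecResidueField_apply _ _
  obtain ⟨p₀, hp₀, -⟩ := Scheme.Pullback.exists_preimage_pullback (f := WidePullback.base (fun _ : Fin d => f'))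
    (g := j) p σ hσ.symm
  let p₂ := hP.isoPullback.inv p₀
  have hcp : c p₂ = p := by
    rw [← Scheme.Hom.comp_apply, hP.isoPullback_inv_fst]; exact hp₀
  -- an affine chart at the point
  let z := n (r p)
  obtain ⟨V, hV, hzV, -⟩ := exists_isAffineOpen_mem_and_subset (x := g (pullback.fst g b z)) (U := ⊤) trivial
  obtain ⟨W', hW', hzW, hWV⟩ := exists_isAffineOpen_mem_and_subset
    (x := pullback.fst g b z) (U := g ⁻¹ᵁ V) hzV
  obtain ⟨T, hT, hzT, hTV⟩ := exists_isAffineOpen_mem_and_subset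
    (x := pullback.snd g b z) (U := b ⁻¹ᵁ V) (by
      show b (pullback.snd g b z) ∈ V
      rw [← Scheme.Hom.comp_apply, ← pullback.condition, Scheme.Hom.comp_apply]
      exact hzV)
  set C := pullback.fst g b ⁻¹ᵁ W' ⊓ pullback.snd g b ⁻¹ᵁ T
  have hzC : r p ∈ n ⁻¹ᵁ C := ⟨hzW, hzT⟩
  have hCaff := isAffineOpen_preimage_chart hq hn hV hW' hWV hT hTV
  have hs'T : s' ∈ T := by
    have e : (r ≫ n ≫ pullback.snd g b) p = s' := by rw [hn.snd]
    rw [← e]
    exact hzT
  -- the fibre over the residue field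
  have wtot : (pullback.fst f' j ≫ h) ≫ f = pullback.snd f' j ≫ (j ≫ b) := by
    rw [Category.assoc, w, ← Category.assoc, pullback.condition, Category.assoc]
  have := isClosedImmersion_lift_baseChange w j
  have hflat : Flat (pullback.snd f' j) := inferInstance
  have hctot : c ≫ cmap w d = cmap wtot d := by
    apply WidePullback.hom_ext
    · intro i
      rw [Category.assoc, cmap_π, cmap_π_assoc, cmap_π]
    · rw [Category.assoc, cmap_base, cmap_base_assoc, cmap_base]
  let ψ : SymProd.fibPow (pullback.snd f' j) d ⟶ pullback g b := c ≫ r ≫ n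
  have hψ1 : ψ ≫ pullback.fst g b = cmap wtot d ≫ q := by
    simp only [ψ, Category.assoc, hn.fst]
    rw [← Category.assoc, hctot]
  have hψ2 : ψ ≫ pullback.snd g b = WidePullback.base (fun _ : Fin d => pullback.snd f' j) ≫ j := by
    simp only [ψ, Category.assoc, hn.snd]
    exact cmap_base wj d
  have := hq.isQuot.affine
  have hO : IsAffineOpen (q ⁻¹ᵁ W') := hW'.preimage q
  have hOV : q ⁻¹ᵁ W' ≤ WidePullback.base (fun _ : Fin d => f) ⁻¹ᵁ V := by
    rw [← hq.over, Scheme.Hom.comp_preimage]; exact q.preimage_mono hWV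
  have hTtot : (⊤ : T₂.Opens) ≤ (j ≫ b) ⁻¹ᵁ V := fun x _ => by
    rw [Subsingleton.elim x σ]
    show (j ≫ b) σ ∈ V
    rw [Scheme.Hom.comp_apply, hσ]
    exact hTV hs'T
  have hst := stab_preimage hq W'
  let O₂ := subO wtot d (⊤ : T₂.Opens) (q ⁻¹ᵁ W')
  have hO₂ : O₂ ≤ c ⁻¹ᵁ subO w d T (q ⁻¹ᵁ W') := fun x hx => by
    refine ⟨?_, ?_⟩
    · show cmap w d (c x) ∈ q ⁻¹ᵁ W'
      rw [← Scheme.Hom.comp_apply, hctot]; exact hx.1
    · show WidePullback.base (fun _ : Fin d => f') (c x) ∈ T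
      rw [← Scheme.Hom.comp_apply, cmap_base, Scheme.Hom.comp_apply, Subsingleton.elim ((WidePullback.base (fun _ : Fin d => pullback.snd f' j)).base x : T₂) σ, hσ]
      exact hs'T
  have hp₂ : p₂ ∈ O₂ := by
    refine ⟨?_, trivial⟩
    show cmap wtot d p₂ ∈ q ⁻¹ᵁ W'
    rw [← hctot, Scheme.Hom.comp_apply, hcp]
    show q (cmap w d p) ∈ W'
    rw [← Scheme.Hom.comp_apply, ← hn.fst]
    exact hzW
  have hr₂ : c p₂ ∈ r ⁻¹ᵁ (n ⁻¹ᵁ C) := by rw [hcp]; exact hzC
  have hle : O₂ ≤ (c ≫ r) ⁻¹ᵁ (n ⁻¹ᵁ C) := by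
    rw [Scheme.Hom.comp_preimage, preimage_chart hn]; exact hO₂
  have hkey : ∀ ξ : Γ(Y', n ⁻¹ᵁ C),
      ((SymProd.fibPow (pullback.snd f' j) d).evaluation O₂ p₂ hp₂).hom
        (((c ≫ r).appLE (n ⁻¹ᵁ C) O₂ hle).hom ξ) ∈ resRange ψ p₂ := by
    intro ξ
    have hfix : (secAct (stab_subO wtot d (T := (⊤ : T₂.Opens)) hst)).Fixed ⊤
        (((c ≫ r).appLE (n ⁻¹ᵁ C) O₂ hle).hom ξ) := fun σ' _ => by
      show ((SymProd.permHom (pullback.snd f' j) d (upHom d σ').symm).appLE O₂ O₂ _).hom _ = _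
      rw [SymP31.appLE_trans]
      refine SymP31.appLE_congr_hom ?_ _ ξ
      rw [← Category.assoc, cmap_perm, Category.assoc]
      exact congrArg (c ≫ ·) (hn.quot.inv ⟨(upHom d σ').symm⟩)
    have hspan := good_sec wtot d hV hO hst hOV (isAffineOpen_top T₂) hTtot
      (Or.inl ⟨hflat, upHom_surjective⟩) _ hfix
    revert hspan
    generalize (((c ≫ r).appLE (n ⁻¹ᵁ C) O₂ hle).hom ξ) = l
    intro hspan
    induction hspan using AddSubgroup.closure_induction with
    | mem x hx =>
      obtain ⟨a, t, ht, rfl⟩ := hx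
      rw [map_mul]
      refine mul_mem ?_ ?_
      · refine resRange_comp_le ψ (pullback.snd g b) p₂ ?_
        rw [resRange_congr hψ2, resRange_comp_of_preimmersion]
        exact eval_appLE_mem _ (subO_le_base wtot d _ _) p₂ hp₂ a
      · obtain ⟨x, rfl⟩ := (hq.isQuot.range_iff W' t).mpr fun σ' => by
          have h1 := ht ⟨σ'.down.symm⟩ trivial
          change ((SymProd.permHom f d σ'.down.symm.symm).appLE _ _ _).hom t = t at h1
          simp only [Equiv.symm_symm] at h1
          exact h1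
        refine resRange_comp_le ψ (pullback.fst g b) p₂ ?_
        rw [resRange_congr hψ1, pullSec, ← Scheme.Hom.appLE_eq_app, SymP31.appLE_trans]
        exact eval_appLE_mem _ _ p₂ hp₂ x
    | zero => rw [map_zero]; exact zero_mem _
    | add a a' _ _ ha ha' => rw [map_add]; exact add_mem ha ha'
    | neg a _ ha => rw [map_neg]; exact neg_mem ha
  -- surjectivity
  rw [ConcreteCategory.isIso_iff_bijective]
  refine ⟨(n.residueFieldMap (r p)).hom.injective, fun v => ?_⟩
  have hgoal : ∀ v : Y'.residueField ((c ≫ r) p₂), v ∈ (n.residueFieldMap ((c ≫ r) p₂)).hom.fieldRange := by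
    have hmem : (c ≫ r) p₂ ∈ n ⁻¹ᵁ C := hr₂
    intro v
    obtain ⟨ξ, ζ, rfl⟩ := Quot84.eval_surj hCaff hmem v
    have hev : ∀ ξ : Γ(Y', n ⁻¹ᵁ C), (Y'.evaluation (n ⁻¹ᵁ C) ((c ≫ r) p₂) hmem).hom ξ ∈
        (n.residueFieldMap ((c ≫ r) p₂)).hom.fieldRange := fun ξ => by
      have h1 := hkey ξ
      rw [eval_appLE, show resRange ψ p₂ = resRange ((c ≫ r) ≫ n) p₂ from
        resRange_congr (Category.assoc _ _ _).symm p₂] at h1
      obtain ⟨u, hu⟩ := h1
      refine ⟨u, ((c ≫ r).residueFieldMap p₂).hom.injective ?_⟩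
      rw [← hu]
      show _ = (((c ≫ r) ≫ n).residueFieldMap p₂).hom u
      rw [Scheme.residueFieldMap_comp (c ≫ r) n]
      rfl
    exact div_mem (hev ξ) (hev ζ)
  have he : (c ≫ r) p₂ = r p := by rw [Scheme.Hom.comp_apply, hcp]
  exact (he ▸ hgoal : ∀ v : Y'.residueField (r p), v ∈ (n.residueFieldMap (r p)).hom.fieldRange) v

end Groth.Agent.Sym20
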