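import Groth.Agent.Sym20.Maps

/-!
# Permutation actions on sections of fibre powers
-/

set_option autoImplicit false
universe u
open CategoryTheory CategoryTheory.Limits AlgebraicGeometry

namespace Groth.Agent.Sym20

variable {G : Type*} [Group G] {X S : Scheme.{u}} {f : X ⟶ S} {d : ℕ} (θ : G →* Equiv.Perm (Fin d))

/-- The open is stable under the group. -/
def Stab (W : (SymProd.fibPow f d).Opens) : Prop :=
  ∀ g : G, W ≤ SymProd.permHom f d (θ g).symm ⁻¹ᵁ W

variable {θ}

theorem Stab.inf {W W' : (SymProd.fibPow f d).Opens} (hW : Stab θ W) (hW' : Stab θ W') : Stab θ (W ⊓ W') :=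
  fun g _ hz => ⟨hW g hz.1, hW' g hz.2⟩

/-- The action on sections. -/
noncomputable def secAct {W : (SymProd.fibPow f d).Opens} (hW : Stab θ W) :
    Act G Γ(SymProd.fibPow f d, W) where
  a g := ((SymProd.permHom f d (θ g).symm).appLE W W (hW g)).hom
  one r := by
    have e : SymProd.permHom f d (θ 1).symm = 𝟙 _ := by
      rw [map_one]; exact SymProd.permHom_one f d
    rw [SymP31.appLE_congr_hom e]
    simp only [Scheme.Hom.appLE, Scheme.Hom.id_app]
    erw [CategoryTheory.Functor.map_id]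
    rfl
  mul g h r := by
    have e : SymProd.permHom f d (θ (g * h)).symm =
        SymProd.permHom f d (θ g).symm ≫ SymProd.permHom f d (θ h).symm := by
      rw [← SymProd.permHom_mul, map_mul]; rfl
    rw [SymP31.appLE_trans, SymP31.appLE_congr_hom e]

/-- Restriction commutes with the action. -/
theorem secAct_res {W D : (SymProd.fibPow f d).Opens} (hW : Stab θ W) (hD : Stab θ D) (hDW : D ≤ W)
    (g : G) (r : Γ(SymProd.fibPow f d, W)) :
    (secAct hD).a g (((SymProd.fibPow f d).presheaf.map (homOfLE hDW).op).hom r) =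
      ((SymProd.fibPow f d).presheaf.map (homOfLE hDW).op).hom ((secAct hW).a g r) := by
  show ((SymProd.permHom f d (θ g).symm).appLE D D (hD g)).hom _ =
    ((SymProd.fibPow f d).presheaf.map (homOfLE hDW).op).hom
      (((SymProd.permHom f d (θ g).symm).appLE W W (hW g)).hom r)
  rw [← CommRingCat.comp_apply, ← CommRingCat.comp_apply, Scheme.Hom.map_appLE, Scheme.Hom.appLE_map]

/-- Fixed sections cut out stable opens. -/
theorem stab_basicOpen {W : (SymProd.fibPow f d).Opens} (hW : Stab θ W) {s : Γ(SymProd.fibPow f d, W)}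
    (hs : (secAct hW).Fixed ⊤ s) : Stab θ ((SymProd.fibPow f d).basicOpen s) := by
  intro g z hz
  have h := hs g trivial
  change ((SymProd.permHom f d (θ g).symm).appLE W W (hW g)).hom s = s at h
  have h2 : z ∈ (SymProd.fibPow f d).basicOpen
      (((SymProd.permHom f d (θ g).symm).appLE W W (hW g)).hom s) := h.symm ▸ hz
  rw [Scheme.basicOpen_appLE] at h2
  exact h2.2

/-- Finitely many points of an affine open lying in an open are in a common basic open inside it. -/
theorem exists_section_of_finite {P : Scheme.{u}} {U : P.Opens} (hU : IsAffineOpen U) (O : P.Opens)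
    (T : Finset P) (hT : T.Nonempty) (hTU : ∀ x ∈ T, x ∈ U) (hTO : ∀ x ∈ T, x ∈ O) :
    ∃ g : Γ(P, U), P.basicOpen g ≤ O ∧ ∀ x ∈ T, x ∈ P.basicOpen g := by
  classical
  obtain ⟨x₀, hx₀⟩ := hT
  have hop : IsOpen (hU.fromSpec ⁻¹' (O : Set P)) := O.2.preimage hU.fromSpec.continuous
  obtain ⟨I, hI⟩ := (PrimeSpectrum.isClosed_iff_zeroLocus_ideal
    (hU.fromSpec ⁻¹' (O : Set P))ᶜ).mp hop.isClosed_compl
  let Q : {x // x ∈ T} → Ideal Γ(P, U) := fun x => (hU.primeIdealOf ⟨x.1, hTU _ x.2⟩).asIdeal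
  have hnot : ¬ ((I : Set Γ(P, U)) ⊆ ⋃ x ∈ ((Finset.univ : Finset {x // x ∈ T}) : Set _), (Q x : Set Γ(P, U))) := by
    intro h
    obtain ⟨x, -, hx⟩ := (Ideal.subset_union_prime (s := Finset.univ) (f := Q) (I := I)
      ⟨x₀, hx₀⟩ ⟨x₀, hx₀⟩ (fun i _ _ _ => (hU.primeIdealOf _).2)).mp h
    have : hU.primeIdealOf ⟨x.1, hTU _ x.2⟩ ∈ PrimeSpectrum.zeroLocus (I : Set Γ(P, U)) := hx
    rw [← hI] at this
    apply this
    show hU.fromSpec _ ∈ O
    rw [hU.fromSpec_primeIdealOf]
    exact hTO _ x.2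
  obtain ⟨g, hgI, hg⟩ := Set.not_subset.mp hnot
  refine ⟨g, fun z hz => ?_, fun x hx => ?_⟩
  · have hzU : z ∈ U := P.basicOpen_le g hz
    by_contra hzO
    have hmem : hU.primeIdealOf ⟨z, hzU⟩ ∈ (hU.fromSpec ⁻¹' (O : Set P))ᶜ := by
      show ¬ (hU.fromSpec _ ∈ O)
      rwa [hU.fromSpec_primeIdealOf]
    have hmem' := (Set.ext_iff.mp hI _).mp hmem
    have e : hU.fromSpec (hU.primeIdealOf ⟨z, hzU⟩) = z := hU.fromSpec_primeIdealOf _
    have h2 : hU.primeIdealOf ⟨z, hzU⟩ ∈ hU.fromSpec ⁻¹ᵁ P.basicOpen g :=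
      show hU.fromSpec (hU.primeIdealOf ⟨z, hzU⟩) ∈ P.basicOpen g from e.symm ▸ hz
    rw [hU.fromSpec_preimage_basicOpen] at h2
    exact h2 (hmem' hgI)
  · have hnotmem : g ∉ Q ⟨x, hx⟩ := fun h =>
      hg (Set.mem_iUnion₂.mpr ⟨⟨x, hx⟩, Finset.mem_coe.mpr (Finset.mem_univ _), h⟩)
    have h3 : hU.primeIdealOf ⟨x, hTU _ hx⟩ ∈ hU.fromSpec ⁻¹ᵁ P.basicOpen g := by
      rw [hU.fromSpec_preimage_basicOpen]
      exact hnotmem
    have e : hU.fromSpec (hU.primeIdealOf ⟨x, hTU _ hx⟩) = x := hU.fromSpec_primeIdealOf _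
    exact e ▸ h3

/-- An invariant section not vanishing at a point, cutting out a neighbourhood inside an open. -/
theorem exists_fixed_section [Finite G] {W : (SymProd.fibPow f d).Opens} (hWa : IsAffineOpen W) (hW : Stab θ W)
    {O : (SymProd.fibPow f d).Opens} (hO : Stab θ O) {z : SymProd.fibPow f d} (hzW : z ∈ W) (hzO : z ∈ O) :
    ∃ s : Γ(SymProd.fibPow f d, W), (secAct hW).Fixed ⊤ s ∧ z ∈ (SymProd.fibPow f d).basicOpen s ∧
      (SymProd.fibPow f d).basicOpen s ≤ O := by
  classical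
  letI := Fintype.ofFinite G
  let orb : Finset (SymProd.fibPow f d) := Finset.univ.image fun g : G => SymProd.permHom f d (θ g).symm z
  obtain ⟨s₁, hle, hs₁⟩ := exists_section_of_finite hWa O orb ⟨_, Finset.mem_image_of_mem _ (Finset.mem_univ 1)⟩
    (fun x hx => by
      obtain ⟨g, -, rfl⟩ := Finset.mem_image.mp hx
      exact hW g hzW)
    (fun x hx => by
      obtain ⟨g, -, rfl⟩ := Finset.mem_image.mp hx
      exact hO g hzO)
  letI : Fintype (⊤ : Subgroup G) := Fintype.ofFinite _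
  refine ⟨∏ g : (⊤ : Subgroup G), (secAct hW).a g s₁, Act.prod_fixed ⊤ s₁, ?_, ?_⟩
  · have : ∀ T : Finset (⊤ : Subgroup G), z ∈ (SymProd.fibPow f d).basicOpen
        (∏ g ∈ T, (secAct hW).a g s₁) := by
      intro T
      induction T using Finset.induction_on with
      | empty => rw [Finset.prod_empty, Scheme.basicOpen_of_isUnit _ isUnit_one]; exact hzW
      | insert g T hg ih =>
        rw [Finset.prod_insert hg, Scheme.basicOpen_mul]
        refine ⟨?_, ih⟩
        show z ∈ (SymProd.fibPow f d).basicOpen (((SymProd.permHom f d (θ g).symm).appLE W W (hW g)).hom s₁)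
        rw [Scheme.basicOpen_appLE]
        exact ⟨hzW, hs₁ _ (Finset.mem_image_of_mem _ (Finset.mem_univ _))⟩
    exact this _
  · rw [← Finset.mul_prod_erase Finset.univ _ (Finset.mem_univ (⟨1, trivial⟩ : (⊤ : Subgroup G))),
      Scheme.basicOpen_mul, (secAct hW).one]
    exact inf_le_left.trans hle

end Groth.Agent.Sym20
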